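import Cfsg.Agent.H76.PostBender.Main
import Cfsg.Agent.Suzuki.Simple
import Cfsg.Agent.Suzuki.Lie
import Cfsg.Agent.H67.RankOneFix.SUThree

/-!
# Invariant subgroups of Sylow 2-subgroups of the groups of Bender's list

A subgroup of a Sylow 2-subgroup that contains its involutions and is invariant under its normaliser is
either everything or has exponent two.
-/

set_option autoImplicit false
set_option linter.style.haveILetI false

namespace Cfsg.Agent.H6.StrongClosed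

open Subgroup

universe u v

/-- Only two invariant subgroups above the involutions. -/
def Irred (M : Type*) [Group M] : Prop :=
  ∀ (U : Sylow 2 M) (W : Subgroup M), W ≤ (U : Subgroup M) →
    (∀ n ∈ normalizer ((U : Subgroup M) : Set M), ∀ w ∈ W, n * w * n⁻¹ ∈ W) →
    (∀ x ∈ (U : Subgroup M), x * x = 1 → x ∈ W) →
    W = (U : Subgroup M) ∨ ∀ w ∈ W, w * w = 1

/-- One Sylow subgroup suffices. -/
theorem Irred.of_one {M : Type*} [Group M] [Finite M] (U₀ : Sylow 2 M)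
    (h : ∀ W : Subgroup M, W ≤ (U₀ : Subgroup M) →
      (∀ n ∈ normalizer ((U₀ : Subgroup M) : Set M), ∀ w ∈ W, n * w * n⁻¹ ∈ W) →
      (∀ x ∈ (U₀ : Subgroup M), x * x = 1 → x ∈ W) →
      W = (U₀ : Subgroup M) ∨ ∀ w ∈ W, w * w = 1) : Irred M := by
  haveI : Fact (Nat.Prime 2) := ⟨Nat.prime_two⟩
  intro U W hW hn hi
  obtain ⟨g, rfl⟩ := MulAction.exists_smul_eq M U₀ U
  have hmem : ∀ {x : M}, x ∈ ((g • U₀ : Sylow 2 M) : Subgroup M) ↔ g⁻¹ * x * g ∈ (U₀ : Subgroup M) :=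
    fun {x} => H39.mem_map_conj (H := (U₀ : Subgroup M))
  have hback : ∀ {x : M}, g * x * g⁻¹ ∈ ((g • U₀ : Sylow 2 M) : Subgroup M) ↔ x ∈ (U₀ : Subgroup M) :=
    fun {x} => by rw [hmem, show g⁻¹ * (g * x * g⁻¹) * g = x by group]
  set W₀ := W.comap (MulAut.conj g).toMonoidHom
  have hW₀ : ∀ {x : M}, x ∈ W₀ ↔ g * x * g⁻¹ ∈ W := fun {x} => Iff.rfl
  rcases h W₀ (fun x hx => hback.mp (hW (hW₀.mp hx))) (fun n hn' w hw => by
      rw [hW₀, show g * (n * w * n⁻¹) * g⁻¹ = (g * n * g⁻¹) * (g * w * g⁻¹) * (g * n * g⁻¹)⁻¹ by group]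
      refine hn _ (mem_normalizer_iff.mpr fun x => ?_) _ (hW₀.mp hw)
      rw [hmem, hmem, show g⁻¹ * (g * n * g⁻¹ * x * (g * n * g⁻¹)⁻¹) * g = n * (g⁻¹ * x * g) * n⁻¹ by group]
      exact mem_normalizer_iff.mp hn' _)
      (fun x hx hx2 => hW₀.mpr (hi _ (hback.mpr hx)
        (by rw [show g * x * g⁻¹ * (g * x * g⁻¹) = g * (x * x) * g⁻¹ by group, hx2, mul_one, mul_inv_cancel])))
    with h | h
  · refine Or.inl (le_antisymm hW fun x hx => ?_)
    have h1 : g⁻¹ * x * g ∈ W₀ := h.symm ▸ hmem.mp hx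
    rw [hW₀, show g * (g⁻¹ * x * g) * g⁻¹ = x by group] at h1
    exact h1
  · refine Or.inr fun w hw => ?_
    have h1 := h (g⁻¹ * w * g) (hW₀.mpr (by rwa [show g * (g⁻¹ * w * g) * g⁻¹ = w by group]))
    rw [show g⁻¹ * w * g * (g⁻¹ * w * g) = g⁻¹ * (w * w) * g⁻¹⁻¹ by group] at h1
    exact conj_eq_one_iff.mp h1

/-- Passage to a quotient by a subgroup without 2-elements. -/
theorem Irred.of_surjective {X : Type u} {N : Type v} [Group X] [Finite X] [Group N] {π : X →* N}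
    (hπ : Function.Surjective π) (hker : ∀ x ∈ π.ker, ∀ k : ℕ, x ^ 2 ^ k = 1 → x = 1) (h : Irred X) :
    Irred N := by
  haveI : Fact (Nat.Prime 2) := ⟨Nat.prime_two⟩
  haveI : Finite N := Finite.of_surjective π hπ
  intro U' W' hW hn hi
  obtain ⟨U, rfl⟩ := Sylow.mapSurjective_surjective hπ 2 U'
  rw [Sylow.coe_mapSurjective] at hW hn hi ⊢
  have hinj : ∀ {x : X}, x ∈ (U : Subgroup X) → π x = 1 → x = 1 := fun {x} hx h1 => by
    obtain ⟨k, hk⟩ := U.isPGroup' ⟨x, hx⟩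
    exact hker x h1 k (congrArg Subtype.val hk)
  set W := W'.comap π ⊓ (U : Subgroup X)
  rcases h U W inf_le_right (fun n hn' w hw => ⟨by
      show π (n * w * n⁻¹) ∈ W'
      rw [map_mul, map_mul, map_inv]
      exact hn _ (le_normalizer_map π ⟨n, hn', rfl⟩) _ hw.1, (mem_normalizer_iff.mp hn' w).mp hw.2⟩)
      (fun x hx hx2 => ⟨hi _ ⟨x, hx, rfl⟩ (by rw [← map_mul, hx2, map_one]), hx⟩) with h' | h'
  · refine Or.inl (le_antisymm hW ?_)
    rintro _ ⟨x, hx, rfl⟩
    exact (h'.symm ▸ hx : x ∈ W).1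
  · refine Or.inr fun w hw => ?_
    obtain ⟨x, hx, rfl⟩ := hW hw
    rw [← map_mul, h' x ⟨hw, hx⟩, map_one]

theorem Irred.of_equiv {X : Type u} {N : Type v} [Group X] [Finite X] [Group N] (e : X ≃* N)
    (h : Irred X) : Irred N :=
  h.of_surjective (π := e.toMonoidHom) e.surjective fun _ hx _ _ => e.map_eq_one_iff.mp hx

section Linear

open Matrix

theorem sl_two_sq {F : Type} [Field F] [Fintype F] [CharP F 2] {x : Matrix.SpecialLinearGroup (Fin 2) F}
    {k : ℕ} (hk : x ^ 2 ^ k = 1) : x * x = 1 := by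
  haveI : Fact (Nat.Prime 2) := ⟨Nat.prime_two⟩
  have step : ∀ A : Matrix (Fin 2) (Fin 2) F, (A * A).trace = A.trace ^ 2 := fun A => by
    simp only [Matrix.trace_fin_two, Matrix.mul_apply, Fin.sum_univ_two]
    linear_combination (A 0 1 * A 1 0 - A 0 0 * A 1 1) * CharTwo.two_eq_zero (R := F)
  have hpow : ∀ j : ℕ, (((x : Matrix (Fin 2) (Fin 2) F)) ^ 2 ^ j).trace =
      (x : Matrix (Fin 2) (Fin 2) F).trace ^ 2 ^ j := by
    intro j
    induction j with
    | zero => simp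
    | succ j ih => rw [pow_succ 2 j, pow_mul, pow_two, step, ih, ← pow_mul]
  have htr : (x : Matrix (Fin 2) (Fin 2) F).trace = 0 := by
    have h := hpow k
    rw [← Matrix.SpecialLinearGroup.coe_pow, hk, Matrix.SpecialLinearGroup.coe_one, Matrix.trace_one,
      Fintype.card_fin, Nat.cast_ofNat, CharTwo.two_eq_zero] at h
    exact pow_eq_zero_iff (by positivity) |>.mp h.symm
  have hdet : (x : Matrix (Fin 2) (Fin 2) F).det = 1 := x.2
  rw [Matrix.det_fin_two] at hdet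
  rw [Matrix.trace_fin_two] at htr
  refine Subtype.ext ?_
  show (x : Matrix (Fin 2) (Fin 2) F) * (x : Matrix (Fin 2) (Fin 2) F) = 1
  have h2 := CharTwo.two_eq_zero (R := F)
  ext i j
  fin_cases i <;> fin_cases j <;> simp [Matrix.mul_apply, Fin.sum_univ_two]
  · linear_combination -hdet + ((x : Matrix (Fin 2) (Fin 2) F) 0 0) * htr - h2
  · linear_combination ((x : Matrix (Fin 2) (Fin 2) F) 0 1) * htr
  · linear_combination ((x : Matrix (Fin 2) (Fin 2) F) 1 0) * htr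
  · linear_combination -hdet + ((x : Matrix (Fin 2) (Fin 2) F) 1 1) * htr - h2

theorem irred_sl_two {F : Type} [Field F] [Fintype F] [CharP F 2] :
    Irred (Matrix.SpecialLinearGroup (Fin 2) F) := fun U W hW _ _ => Or.inr fun w hw => by
  obtain ⟨k, hk⟩ := U.isPGroup' ⟨w, hW hw⟩
  exact sl_two_sq (congrArg Subtype.val hk)

end Linear

section Suzuki

variable {F : Type} [Field F] [Fintype F] (m : ℕ) [Suzuki.SzField F m]

theorem irred_sz : Irred (Cfsg.Sz F m) := by
  haveI : Fact (Nat.Prime 2) := ⟨Nat.prime_two⟩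
  refine Irred.of_one (Suzuki.sylowU m) fun W hW hn hi => ?_
  rw [Suzuki.coe_sylowU] at hW hn hi ⊢
  by_cases hex : ∃ a b : F, a ≠ 0 ∧ Suzuki.u m a b ∈ W
  · obtain ⟨a, b, ha, hab⟩ := hex
    refine Or.inl (le_antisymm hW fun x hx => ?_)
    obtain ⟨c, d, rfl⟩ := (Suzuki.mem_U m).mp hx
    have hzero : ∀ d' : F, Suzuki.u m 0 d' ∈ W := fun d' => hi _ (Suzuki.u_mem_U m _ _) (by
      rw [Suzuki.u_mul, Suzuki.th_zero, zero_mul, add_zero, add_zero, Suzuki.add_self m, Suzuki.u_zero])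
    by_cases hc : c = 0
    · rw [hc]; exact hzero d
    obtain ⟨s, hs⟩ := (Suzuki.th_bijective (F := F) m).2 (c / a)
    have hs0 : s ≠ 0 := fun h => by
      rw [h, Suzuki.th_zero] at hs
      exact div_ne_zero hc ha hs.symm
    have h1 := hn _ (Suzuki.B_le_normalizer_U m (Suzuki.T_le_B m (Suzuki.t_mem_T m (Units.mk0 s hs0)))) _ hab
    rw [Suzuki.t_u, Units.val_mk0, hs, div_mul_cancel₀ c ha] at h1
    obtain ⟨d', hd'⟩ : ∃ d', Suzuki.u m c (s ^ 2 * (c / a) * b) * Suzuki.u m 0 d' = Suzuki.u m c d :=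
      ⟨d + s ^ 2 * (c / a) * b, by
        rw [Suzuki.u_mul, mul_zero, add_zero, add_zero]
        congr 1
        rw [add_comm d, ← add_assoc, Suzuki.add_self m, zero_add]⟩
    rw [← hd']
    exact mul_mem h1 (hzero d')
  · push Not at hex
    refine Or.inr fun w hw => ?_
    obtain ⟨a, b, rfl⟩ := (Suzuki.mem_U m).mp (hW hw)
    obtain rfl : a = 0 := by by_contra ha; exact hex a b ha hw
    rw [Suzuki.u_mul, Suzuki.th_zero, zero_mul, add_zero, add_zero, Suzuki.add_self m, Suzuki.u_zero]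

end Suzuki

section Unitary

open Matrix hiding vec
open Cfsg Cfsg.Agent.Unitary Cfsg.Agent.H52.SUThree Cfsg.Agent.H67.RankOneFix

variable {F : Type} [Field F] [Fintype F] [CharP F 2] {q : ℕ}

theorem irred_su_three (hF : Fintype.card F = q ^ 2) (hq : 4 ≤ q) : Irred (Cfsg.SU 3 F q) := by
  classical
  haveI : Fact (Nat.Prime 2) := ⟨Nat.prime_two⟩
  obtain ⟨u, w, f, hfr⟩ := exists_frame (F := F) hF
  have hu0 : u ≠ 0 := fun h => by
    have := hfr.uf; rw [h, herm_zero_left] at this; exact zero_ne_one this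
  obtain ⟨U₀, hU₀⟩ := (suGeom 2 hF).stab u ⟨hu0, hfr.uu⟩
  have hU : ∀ g : SU 3 F q, g ∈ (U₀ : Subgroup (SU 3 F q)) ↔ ap g u = u := hU₀
  refine Irred.of_one U₀ fun W hW hn hi => ?_
  have hE0 : ∀ {β : F} (h : Ok q (0 : F) β), eSU hF (h.spec hfr) ∈ W := fun {β} h => by
    refine hi _ ((hU _).mpr (E_fixes hF hfr h)) (eq_of_ap hfr fun p r s => ?_)
    rw [ap_mul, ap_E hF hfr h, ap_E hF hfr h, ap_one, zero_pow (q_ne_zero hF)]
    congr 1
    · linear_combination (β * s) * CharTwo.two_eq_zero (R := F)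
    · ring
  by_cases hex : ∃ (b β : F) (h : Ok q b β), b ≠ 0 ∧ eSU hF (h.spec hfr) ∈ W
  swap
  · push Not at hex
    refine Or.inr fun x hx => ?_
    obtain ⟨b, β, h, rfl⟩ := eq_E_of_fix hF hfr ((hU x).mp (hW hx))
    obtain rfl : b = 0 := by by_contra hb; exact hex b β h hb hx
    refine eq_of_ap hfr fun p r s => ?_
    rw [ap_mul, ap_E hF hfr h, ap_E hF hfr h, ap_one, zero_pow (q_ne_zero hF)]
    congr 1
    · linear_combination (β * s) * CharTwo.two_eq_zero (R := F)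
    · ring
  obtain ⟨a, α, ha, ha0, haW⟩ := hex
  obtain ⟨g, hg⟩ := IsCyclic.exists_ofOrder_eq_natCard (α := Fˣ)
  set μ : F := (g : F) with hμdef
  have hμ : μ ≠ 0 := g.ne_zero
  have hμq := (pow_q_eq_zero_iff hF).not.2 hμ
  -- a torus element
  obtain ⟨t, ht⟩ := exists_map hF hfr !![μ, 0, 0; 0, μ ^ q / μ, 0; 0, 0, (μ ^ q)⁻¹] (by
      rw [Matrix.det_fin_three]
      simp
      field_simp)
    (fun x y => by
      simp [Matrix.mulVec, dotProduct, Fin.sum_univ_three, mul_pow, inv_pow, div_pow, pow_q_q hF]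
      field_simp)
  have ht' : ∀ p r s, ap t (vec u w f p r s) = vec u w f (μ * p) (μ ^ q / μ * r) ((μ ^ q)⁻¹ * s) := fun p r s => by
    rw [ht p r s]
    congr 1 <;> simp [Matrix.mulVec, dotProduct, Fin.sum_univ_three]
  have htN : t ∈ normalizer ((U₀ : Subgroup (SU 3 F q)) : Set (SU 3 F q)) := by
    have htu : ap t u = μ • u := by
      conv_lhs => rw [← fr_u u w f]
      rw [ht']
      simp [vec]
    refine H39.mem_normalizer_of_conj_mem fun x hx => (hU _).mpr ?_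
    have h1 : ap t⁻¹ u = μ⁻¹ • u := by
      have h0 : ap t⁻¹ (ap t u) = u := ap_inv_ap t u
      rw [htu, ap_smul] at h0
      conv_rhs => rw [← h0, smul_smul, inv_mul_cancel₀ hμ, one_smul]
    rw [ap_mul, ap_mul, h1, ap_smul, (hU x).mp hx, ap_smul, htu, smul_smul, inv_mul_cancel₀ hμ, one_smul]
  set κ : F := μ ^ q / μ * μ ^ q with hκdef
  have hstep : ∀ b ∈ params hF hfr W, κ * b ∈ params hF hfr W := by
    rintro b ⟨β, h, hmem⟩
    have hok : Ok q (κ * b) (μ * μ ^ q * β) := by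
      rw [Ok, hκdef]
      simp only [mul_pow, div_pow, pow_q_q hF]
      field_simp
      have h0 : β + β ^ q + b * b ^ q = 0 := h
      linear_combination (μ * μ ^ q) * h0
    refine ⟨_, hok, ?_⟩
    have e : eSU hF (hok.spec hfr) = t * eSU hF (h.spec hfr) * t⁻¹ := by
      refine eq_mul_inv_of_mul_eq (eq_of_ap hfr fun p r s => ?_)
      rw [ap_mul, ap_mul, ht', ap_E hF hfr hok, ap_E hF hfr h, ht', hκdef]
      simp only [mul_pow, div_pow, pow_q_q hF]
      congr 1 <;> field_simp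
    rw [e]
    exact hn t htN _ hmem
  have hκ : ∀ r e : ℕ, 2 ≤ r → 2 ≤ e → r ^ e = Fintype.card F → κ ^ r ≠ κ := by
    intro r e hr he hre hfix
    have hrq : r ≤ q := by
      have h1 : r ^ 2 ≤ r ^ e := Nat.pow_le_pow_right (by omega) he
      rw [hre, hF] at h1
      exact (Nat.pow_le_pow_iff_left two_ne_zero).mp h1
    have hκ0 : κ ≠ 0 := by rw [hκdef]; exact mul_ne_zero (div_ne_zero hμq hμ) hμq
    have hκ1 : κ ^ (r - 1) = 1 := by
      rw [pow_sub₀ κ hκ0 (by omega), hfix, pow_one, mul_inv_cancel₀ hκ0]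
    have hexp : κ = μ ^ (2 * q - 1) := by
      rw [hκdef, div_mul_eq_mul_div, ← pow_add, ← two_mul, div_eq_iff hμ, ← pow_succ,
        Nat.sub_add_cancel (by omega)]
    have hd : orderOf g ∣ (2 * q - 1) * (r - 1) := orderOf_dvd_of_pow_eq_one (Units.ext (by
      rw [Units.val_pow_eq_pow_val, ← hμdef, pow_mul, ← hexp, hκ1, Units.val_one]))
    rw [hg, Nat.card_units, Nat.card_eq_fintype_card, hF] at hd
    have h3 : q ^ 2 - 1 ∣ 3 * (r - 1) := by
      have h4 : q ^ 2 - 1 ∣ (4 * (q ^ 2 - 1) + 3) * (r - 1) := by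
        have e4 : 4 * (q ^ 2 - 1) + 3 = (2 * q + 1) * (2 * q - 1) := by
          zify [Nat.one_le_pow 2 q (by omega), show 1 ≤ 2 * q by omega]
          ring
        rw [e4, mul_assoc]
        exact dvd_mul_of_dvd_right hd _
      rw [add_mul] at h4
      exact (Nat.dvd_add_right (dvd_mul_of_dvd_left (dvd_mul_left _ _) _)).mp h4
    have h5 := Nat.le_of_dvd (by omega) h3
    have h6 : q * 4 ≤ q ^ 2 := by rw [pow_two]; exact Nat.mul_le_mul_left q hq
    omega
  have htop : params hF hfr W = ⊤ := params_eq_top ha0 ⟨α, ha, haW⟩ hstep (subfield_eq_top hκ)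
  refine Or.inl (le_antisymm hW fun x hx => ?_)
  obtain ⟨b, β, h, rfl⟩ := eq_E_of_fix hF hfr ((hU x).mp hx)
  obtain ⟨β', h', hmem⟩ : b ∈ params hF hfr W := htop ▸ AddSubgroup.mem_top b
  have hzero : Ok q (0 : F) (β' ^ q + β - b * (-b) ^ q) := by
    have h0 := (h'.neg hF).add hF h
    rwa [neg_add_cancel] at h0
  have e : eSU hF (h.spec hfr) = eSU hF (h'.spec hfr) * eSU hF (hzero.spec hfr) := by
    rw [← inv_mul_eq_iff_eq_mul, E_inv hF hfr h', E_mul hF hfr (h'.neg hF) h]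
    exact E_congr hF hfr ((h'.neg hF).add hF h) hzero (neg_add_cancel b) rfl
  rw [e]
  exact mul_mem hmem (hE0 hzero)

end Unitary

/-- The groups of Bender's list. -/
theorem irred_of_bender {G : Type u} [Group G] [Finite G] (hB : H76.PostBender.IsBenderGroup G) :
    Irred G := by
  rcases hB with ⟨F, _, _, hc, -, ⟨e⟩⟩ | h | ⟨F, _, _, q, hF, hq, h4, ⟨e⟩⟩
  · haveI := hc
    obtain ⟨e'⟩ := H76.PostBender.nonempty_equiv_sl_two e
    exact (irred_sl_two (F := F)).of_equiv e'.symm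
  · obtain ⟨F, _, _, m, hm, hF, ⟨e⟩⟩ := h
    haveI : Suzuki.SzField F m := ⟨hF, hm⟩
    exact ((irred_sz (F := F) m).of_equiv (Suzuki.lieEquiv m)).of_equiv e.symm
  · haveI := H76.PostBender.charP_two_of_card hF hq
    refine ((irred_su_three hF h4).of_surjective (π := QuotientGroup.mk' (center (Cfsg.SU 3 F q)))
      (QuotientGroup.mk'_surjective _) fun x hx k hk => ?_).of_equiv e.symm
    rw [QuotientGroup.ker_mk'] at hx
    obtain ⟨l, hl⟩ := Unitary.eq_smul_of_mem_center hF (by norm_num) hx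
    have hm := Unitary.mat_of_ap_smul hl
    have hl3 : l ^ 3 = 1 := by
      have h := (x : Matrix.SpecialLinearGroup (Fin 3) F).2
      have hm' : ((x : Matrix.SpecialLinearGroup (Fin 3) F) : Matrix (Fin 3) (Fin 3) F) = l • (1 : Matrix (Fin 3) (Fin 3) F) := hm
      rw [hm', Matrix.det_smul, Matrix.det_one, mul_one, Fintype.card_fin] at h
      exact h
    have hx3 : x ^ 3 = 1 := Subtype.ext (Subtype.ext (by
      have hm' : ((x : Matrix.SpecialLinearGroup (Fin 3) F) : Matrix (Fin 3) (Fin 3) F) = l • (1 : Matrix (Fin 3) (Fin 3) F) := hm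
      simp only [SubmonoidClass.coe_pow, Matrix.SpecialLinearGroup.coe_pow, hm', smul_pow, one_pow, hl3,
        one_smul]
      rfl))
    exact orderOf_eq_one_iff.mp (Nat.eq_one_of_dvd_coprimes
      ((by norm_num : Nat.Coprime 3 2).pow_right k) (orderOf_dvd_of_pow_eq_one hx3)
      (orderOf_dvd_of_pow_eq_one hk))

end Cfsg.Agent.H6.StrongClosed
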