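import Cfsg.Agent.H25.QuaternionSylow
import Cfsg.Agent.H39.Basic
import Mathlib.GroupTheory.Sylow

/-!
# Quaternion subgroups of order eight

A subgroup generated by two elements `u`, `y` of order four with the quaternion relations, its three
cyclic subgroups of order four, and the elements of its normaliser fixing all three of them.
-/

set_option autoImplicit false
set_option linter.style.haveILetI false

namespace Cfsg.Agent.H6.StrongClosed

open Subgroup

universe u

variable {G : Type u} [Group G]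

/-- An element commuting with `a` commutes with its powers. -/
theorem conj_zpow_eq {n a b : G} (h : n * a * n⁻¹ = b) (i : ℤ) : n * a ^ i * n⁻¹ = b ^ i := by
  rw [← h, conj_zpow]

/-- If conjugation by `m` multiplies `y` by `r` and fixes `r`, its iterates multiply by powers. -/
theorem conj_pow_eq {m y r : G} (hy : m * y * m⁻¹ = y * r) (hr : m * r * m⁻¹ = r) (l : ℕ) :
    m ^ l * y * (m ^ l)⁻¹ = y * r ^ l := by
  induction l with
  | zero => simp
  | succ l ih =>
    rw [pow_succ' m, show m * m ^ l * y * (m * m ^ l)⁻¹ = m * (m ^ l * y * (m ^ l)⁻¹) * m⁻¹ by group, ih,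
      show m * (y * r ^ l) * m⁻¹ = (m * y * m⁻¹) * (m * r ^ l * m⁻¹) by group, hy, ← conj_pow, hr,
      mul_assoc, ← pow_succ']

/-- An element of odd order stabilising the series `1 ≤ ⟨r⟩ ≤ ⟨y, r⟩` of 2-elements centralises. -/
theorem conj_eq_of_step {m y r : G} (hm : Odd (orderOf m)) {j : ℕ} (hj : orderOf r ∣ 2 ^ j)
    (hy : m * y * m⁻¹ = y * r) (hr : m * r * m⁻¹ = r) : m * y * m⁻¹ = y := by
  have h := conj_pow_eq hy hr (orderOf m)
  rw [pow_orderOf_eq_one, one_mul, inv_one, mul_one, left_eq_mul] at h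
  have h1 : orderOf r ∣ 1 := by
    rw [← Nat.Coprime.gcd_eq_one ((Nat.coprime_two_left.mpr hm).pow_left j)]
    exact Nat.dvd_gcd hj (orderOf_dvd_of_pow_eq_one h)
  rw [hy, orderOf_eq_one_iff.mp (Nat.dvd_one.mp h1), mul_one]

/-- `u`, `y` generate the subgroup `R` as a quaternion group of order eight. -/
structure Eight (R : Subgroup G) (u y : G) : Prop where
  u_mem : u ∈ R
  y_mem : y ∈ R
  order_u : orderOf u = 4
  inv : y * u * y⁻¹ = u⁻¹
  sq : y * y = u * u
  gen : ∀ q ∈ R, q ∈ zpowers u ∨ y⁻¹ * q ∈ zpowers u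
  notMem : y ∉ zpowers u

/-- Among three objects, at most one differs from two given distinct ones. -/
theorem third {α : Type*} {a b c p q x y : α} (hp : p = a ∨ p = b ∨ p = c)
    (hq : q = a ∨ q = b ∨ q = c) (hx : x = a ∨ x = b ∨ x = c) (hy : y = a ∨ y = b ∨ y = c)
    (hpq : p ≠ q) (x1 : x ≠ p) (x2 : x ≠ q) (y1 : y ≠ p) (y2 : y ≠ q) : x = y := by
  rcases hx with rfl | rfl | rfl <;> rcases hy with rfl | rfl | rfl <;> first
    | rfl
    | (rcases hp with rfl | rfl | rfl <;> rcases hq with rfl | rfl | rfl <;> first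
        | exact absurd rfl hpq
        | exact absurd rfl x1
        | exact absurd rfl x2
        | exact absurd rfl y1
        | exact absurd rfl y2)

namespace Eight

variable {R : Subgroup G} {u y : G} (E : Eight R u y)
include E

theorem u_four : u ^ 4 = 1 := E.order_u ▸ pow_orderOf_eq_one u

theorem mem_zpowers_u {q : G} (hq : q ∈ zpowers u) :
    q = 1 ∨ q = u ∨ q = u * u ∨ q = u⁻¹ := by
  obtain ⟨i, rfl⟩ := mem_zpowers_iff.mp hq
  have h : u ^ i = u ^ (i % 4) := by
    conv_lhs => rw [← zpow_mod_orderOf u i, E.order_u]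
    norm_num
  have h4 : u ^ (4 : ℤ) = 1 := by exact_mod_cast E.u_four
  rcases (show i % 4 = 0 ∨ i % 4 = 1 ∨ i % 4 = 2 ∨ i % 4 = 3 by omega) with e | e | e | e <;>
    rw [e] at h
  · exact Or.inl (by rw [h, zpow_zero])
  · exact Or.inr (Or.inl (by rw [h, zpow_one]))
  · exact Or.inr (Or.inr (Or.inl (by rw [h, zpow_two])))
  · refine Or.inr (Or.inr (Or.inr ?_))
    rw [h, eq_inv_iff_mul_eq_one, ← zpow_add_one]
    exact h4

theorem uu_uu : u * u * (u * u) = 1 := by
  rw [show u * u * (u * u) = u ^ 4 by rw [pow_succ, pow_succ, pow_succ, pow_one]; group, E.u_four]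

theorem commute_y_uu : Commute y (u * u) := by
  rw [← E.sq]; exact (Commute.refl y).mul_right (Commute.refl y)

theorem order_two (q : G) (hq : q * q = u * u) : orderOf q = 4 := by
  have h2 : q ^ 2 ≠ 1 := by
    rw [pow_two, hq]
    intro h
    have hd : orderOf u ∣ 2 := orderOf_dvd_of_pow_eq_one (by rw [pow_two, h])
    rw [E.order_u] at hd
    norm_num at hd
  have : Fact (Nat.Prime 2) := ⟨Nat.prime_two⟩
  exact orderOf_eq_prime_pow (p := 2) (n := 1) (by simpa using h2)
    (by rw [show (2 : ℕ) ^ (1 + 1) = 2 * 2 from rfl, pow_mul, pow_two q, hq, pow_two]; exact E.uu_uu)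

theorem order_y : orderOf y = 4 := E.order_two y E.sq

theorem yu_sq : y * u * (y * u) = u * u := by
  calc y * u * (y * u) = (y * u * y⁻¹) * (y * y) * u := by group
    _ = u⁻¹ * (u * u) * u := by rw [E.inv, E.sq]
    _ = u * u := by group

theorem order_yu : orderOf (y * u) = 4 := E.order_two _ E.yu_sq

/-- The three subgroups of order four. -/
def Three (_E : Eight R u y) (L : Subgroup G) : Prop :=
  L = zpowers u ∨ L = zpowers y ∨ L = zpowers (y * u)

theorem zpowers_mem_three {q : G} (hq : q ∈ R) (h4 : orderOf q = 4) : E.Three (zpowers q) := by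
  have hne : q ≠ 1 ∧ q ≠ u * u := by
    refine ⟨fun e => ?_, fun e => ?_⟩
    · rw [e, orderOf_one] at h4; norm_num at h4
    · have hd : orderOf q ∣ 2 := orderOf_dvd_of_pow_eq_one (by rw [pow_two, e]; exact E.uu_uu)
      rw [h4] at hd; norm_num at hd
  rcases E.gen q hq with h | h
  · rcases E.mem_zpowers_u h with e | e | e | e
    · exact absurd e hne.1
    · exact Or.inl (by rw [e])
    · exact absurd e hne.2
    · exact Or.inl (by rw [e, zpowers_inv])
  · have hq' : q = y * (y⁻¹ * q) := by group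
    rcases E.mem_zpowers_u h with e | e | e | e <;> rw [e] at hq'
    · exact Or.inr (Or.inl (by rw [hq', mul_one]))
    · exact Or.inr (Or.inr (by rw [hq']))
    · refine Or.inr (Or.inl ?_)
      have e' : y * (u * u) = y⁻¹ := by
        rw [eq_inv_iff_mul_eq_one, mul_assoc, ← E.commute_y_uu.eq, ← mul_assoc, E.sq]
        exact E.uu_uu
      rw [hq', e', zpowers_inv]
    · refine Or.inr (Or.inr ?_)
      have e' : y * u⁻¹ = (y * u)⁻¹ := by
        rw [eq_inv_iff_mul_eq_one]
        calc y * u⁻¹ * (y * u) = (y * u⁻¹ * y⁻¹) * (y * y) * u := by group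
          _ = u * (u * u) * u := by rw [← conj_inv, E.inv, inv_inv, E.sq]
          _ = u * u * (u * u) := by group
          _ = 1 := E.uu_uu
      rw [hq', e', zpowers_inv]

/-- Elements normalising `R` permute the three subgroups. -/
theorem map_three {n : G} (hn : n ∈ normalizer (R : Set G)) {L : Subgroup G} (hL : E.Three L) :
    E.Three (L.map (MulAut.conj n).toMonoidHom) := by
  have key : ∀ {q : G}, q ∈ R → orderOf q = 4 → E.Three ((zpowers q).map (MulAut.conj n).toMonoidHom) :=
    fun {q} hq h4 => by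
      rw [MonoidHom.map_zpowers]
      exact E.zpowers_mem_three ((mem_normalizer_iff.mp hn q).mp hq)
        ((MulEquiv.orderOf_eq (MulAut.conj n) q).trans h4)
  rcases hL with rfl | rfl | rfl
  · exact key E.u_mem E.order_u
  · exact key E.y_mem E.order_y
  · exact key (mul_mem E.y_mem E.u_mem) E.order_yu

theorem ne_uy : zpowers u ≠ zpowers y := fun e => E.notMem (e ▸ mem_zpowers y)

theorem ne_u_yu : zpowers u ≠ zpowers (y * u) := fun e => E.notMem (by
  have h : y * u ∈ zpowers u := e ▸ mem_zpowers (y * u)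
  simpa using mul_mem h (inv_mem (mem_zpowers u)))

theorem ne_y_yu : zpowers y ≠ zpowers (y * u) := fun e => E.ne_uy (by
  have h : y * u ∈ zpowers y := e ▸ mem_zpowers (y * u)
  have hu : u ∈ zpowers y := by simpa using mul_mem (inv_mem (mem_zpowers y)) h
  haveI : Finite ↥(zpowers y) := Nat.finite_of_card_ne_zero (by rw [Nat.card_zpowers, E.order_y]; norm_num)
  exact eq_of_le_of_card_ge (zpowers_le.mpr hu) (by rw [Nat.card_zpowers, Nat.card_zpowers, E.order_u, E.order_y]))

/-- An element fixing the three subgroups induces an inner automorphism of `R`. -/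
theorem exists_inner {w : G} (hu : w * u * w⁻¹ ∈ zpowers u) (hy : w * y * w⁻¹ ∈ zpowers y) :
    ∃ r ∈ R, Commute (r⁻¹ * w) u ∧ Commute (r⁻¹ * w) y := by
  have h4 : ∀ {q : G}, orderOf q = 4 → w * q * w⁻¹ ∈ zpowers q →
      w * q * w⁻¹ = q ∨ w * q * w⁻¹ = q⁻¹ := by
    intro q hq hmem
    obtain ⟨i, hi⟩ := mem_zpowers_iff.mp hmem
    have ho : orderOf (w * q * w⁻¹) = 4 := (MulEquiv.orderOf_eq (MulAut.conj w) q).trans hq
    have h : q ^ i = q ^ (i % 4) := by
      conv_lhs => rw [← zpow_mod_orderOf q i, hq]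
      norm_num
    have hq4 : q ^ (4 : ℤ) = 1 := by
      have := pow_orderOf_eq_one q
      rw [hq] at this
      exact_mod_cast this
    rcases (show i % 4 = 0 ∨ i % 4 = 1 ∨ i % 4 = 2 ∨ i % 4 = 3 by omega) with e | e | e | e <;>
      rw [e] at h
    · rw [← hi, h, zpow_zero, orderOf_one] at ho; norm_num at ho
    · exact Or.inl (by rw [← hi, h, zpow_one])
    · have hd : orderOf (w * q * w⁻¹) ∣ 2 := orderOf_dvd_of_pow_eq_one (by
        rw [← hi, h, ← zpow_natCast, ← zpow_mul]; exact hq4)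
      rw [ho] at hd; norm_num at hd
    · refine Or.inr ?_
      rw [← hi, h, eq_inv_iff_mul_eq_one, ← zpow_add_one]
      exact hq4
  have hyinv : u * y * u⁻¹ = y⁻¹ := by
    calc u * y * u⁻¹ = u * (y * u⁻¹ * y⁻¹) * y := by group
      _ = u * u * y := by rw [← conj_inv, E.inv, inv_inv]
      _ = y * (u * u) := E.commute_y_uu.eq.symm
      _ = y⁻¹ := by
        rw [eq_inv_iff_mul_eq_one, mul_assoc, ← E.commute_y_uu.eq, ← mul_assoc, E.sq]
        exact E.uu_uu
  have mk : ∀ {r q : G}, w * q * w⁻¹ = r * q * r⁻¹ → Commute (r⁻¹ * w) q := fun {r q} h => by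
    show r⁻¹ * w * q = q * (r⁻¹ * w)
    calc r⁻¹ * w * q = r⁻¹ * (w * q * w⁻¹) * w := by group
      _ = q * (r⁻¹ * w) := by rw [h]; group
  rcases h4 E.order_u hu with h1 | h1 <;> rcases h4 E.order_y hy with h2 | h2
  · exact ⟨1, one_mem _, mk (by rw [h1]; group), mk (by rw [h2]; group)⟩
  · exact ⟨u, E.u_mem, mk (by rw [h1]; group), mk (by rw [h2, hyinv])⟩
  · exact ⟨y, E.y_mem, mk (by rw [h1, E.inv]), mk (by rw [h2]; group)⟩
  · refine ⟨y * u, mul_mem E.y_mem E.u_mem, mk ?_, mk ?_⟩
    · rw [h1, ← E.inv]; group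
    · rw [h2, show y * u * y * (y * u)⁻¹ = y * (u * y * u⁻¹) * y⁻¹ by group, hyinv]; group

/-- An element fixing one of the three subgroups and moving some moves both others. -/
theorem other {g : G} (hg : g ∈ normalizer (R : Set G)) {L L₂ : Subgroup G} (hL : E.Three L)
    (hgf : L.map (MulAut.conj g).toMonoidHom = L)
    (hgm : ∃ L₁, E.Three L₁ ∧ L₁.map (MulAut.conj g).toMonoidHom ≠ L₁)
    (hL₂ : E.Three L₂) (h2 : L₂ ≠ L) :
    L₂.map (MulAut.conj g).toMonoidHom ≠ L ∧ L₂.map (MulAut.conj g).toMonoidHom ≠ L₂ := by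
  have hinj : Function.Injective (fun M : Subgroup G => M.map (MulAut.conj g).toMonoidHom) :=
    map_injective (MulAut.conj g).injective
  refine ⟨fun e => h2 (hinj (e.trans hgf.symm)), fun e => ?_⟩
  obtain ⟨L₁, hL₁, hne⟩ := hgm
  have h1 : L₁ ≠ L := fun e' => hne (e' ▸ hgf)
  have h12 : L₁ ≠ L₂ := fun e' => hne (e' ▸ e)
  exact hne (third hL hL₂ (E.map_three hg hL₁) hL₁ (Ne.symm h2)
    (fun e' => h1 (hinj (e'.trans hgf.symm))) (fun e' => h12 (hinj (e'.trans e.symm))) h1 h12)

/-- Two elements which fix a common one of the three subgroups and each move some agree on them. -/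
theorem map_eq_of_fixed {t t' : G} (ht : t ∈ normalizer (R : Set G)) (ht' : t' ∈ normalizer (R : Set G))
    {L : Subgroup G} (hL : E.Three L) (hfix : L.map (MulAut.conj t).toMonoidHom = L)
    (hfix' : L.map (MulAut.conj t').toMonoidHom = L)
    (hmove : ∃ L₁, E.Three L₁ ∧ L₁.map (MulAut.conj t).toMonoidHom ≠ L₁)
    (hmove' : ∃ L₁, E.Three L₁ ∧ L₁.map (MulAut.conj t').toMonoidHom ≠ L₁)
    {L₂ : Subgroup G} (hL₂ : E.Three L₂) :
    L₂.map (MulAut.conj t).toMonoidHom = L₂.map (MulAut.conj t').toMonoidHom := by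
  by_cases h2 : L₂ = L
  · rw [h2, hfix, hfix']
  obtain ⟨a1, a2⟩ := E.other ht hL hfix hmove hL₂ h2
  obtain ⟨b1, b2⟩ := E.other ht' hL hfix' hmove' hL₂ h2
  exact third hL hL₂ (E.map_three ht hL₂) (E.map_three ht' hL₂) (Ne.symm h2) a1 a2 b1 b2

/-- Fixing the three subgroups by conjugation. -/
theorem exists_inner_of_fix {w : G}
    (h : ∀ L, E.Three L → L.map (MulAut.conj w).toMonoidHom = L) :
    ∃ r ∈ R, Commute (r⁻¹ * w) u ∧ Commute (r⁻¹ * w) y := by
  have key : ∀ {q : G}, E.Three (zpowers q) → w * q * w⁻¹ ∈ zpowers q := fun {q} hq => by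
    rw [← h _ hq]
    exact ⟨q, mem_zpowers q, rfl⟩
  exact E.exists_inner (key (Or.inl rfl)) (key (Or.inr (Or.inl rfl)))

/-- An element fixing a subgroup and moving some, and a transform of it, reduce the permutation action
of an element to the trivial one. -/
theorem exists_reduce {Γ : Subgroup G} {s n : G} (hs : s ∈ Γ) (hsR : s ∈ normalizer (R : Set G))
    (hn : n ∈ normalizer (R : Set G)) (hns : n * s * n⁻¹ ∈ Γ)
    {U : Subgroup G} (hU : E.Three U) (hsU : U.map (MulAut.conj s).toMonoidHom = U)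
    (hmove : ∃ L₁, E.Three L₁ ∧ L₁.map (MulAut.conj s).toMonoidHom ≠ L₁) :
    ∃ w ∈ Γ, w ∈ normalizer (R : Set G) ∧
      ∀ L, E.Three L → L.map (MulAut.conj (w⁻¹ * n)).toMonoidHom = L := by
  classical
  have comp : ∀ (g h : G) (L : Subgroup G), L.map (MulAut.conj (g * h)).toMonoidHom =
      (L.map (MulAut.conj h).toMonoidHom).map (MulAut.conj g).toMonoidHom :=
    fun g h L => (H39.map_conj_map_conj L g h).symm
  have back : ∀ {g : G} {L M : Subgroup G}, L.map (MulAut.conj g).toMonoidHom = M →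
      M.map (MulAut.conj g⁻¹).toMonoidHom = L := fun {g L M} e => by
    rw [← e, ← comp, inv_mul_cancel, H39.map_conj_one]
  -- the case of an element fixing `U`
  have base : ∀ {m : G}, m ∈ normalizer (R : Set G) → U.map (MulAut.conj m).toMonoidHom = U →
      ∃ w ∈ Γ, w ∈ normalizer (R : Set G) ∧
        ∀ L, E.Three L → L.map (MulAut.conj (w⁻¹ * m)).toMonoidHom = L := by
    intro m hm hmU
    by_cases hfix : ∀ L, E.Three L → L.map (MulAut.conj m).toMonoidHom = L
    · exact ⟨1, one_mem _, one_mem _, fun L hL => by rw [inv_one, one_mul]; exact hfix L hL⟩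
    push Not at hfix
    refine ⟨s, hs, hsR, fun L hL => ?_⟩
    rw [comp, E.map_eq_of_fixed hm hsR hU hmU hsU hfix hmove hL, ← comp, inv_mul_cancel, H39.map_conj_one]
  obtain ⟨V, hV⟩ : ∃ V, U.map (MulAut.conj n).toMonoidHom = V := ⟨_, rfl⟩
  by_cases hVU : V = U
  · exact base hn (hV.trans hVU)
  have hV3 : E.Three V := hV ▸ E.map_three hn hU
  set s' := n * s * n⁻¹
  have hs'R : s' ∈ normalizer (R : Set G) := mul_mem (mul_mem hn hsR) (inv_mem hn)
  have hs'V : V.map (MulAut.conj s').toMonoidHom = V := by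
    rw [show s' = n * (s * n⁻¹) from mul_assoc _ _ _, comp, comp, back hV, hsU, hV]
  have hs'm : ∃ L₁, E.Three L₁ ∧ L₁.map (MulAut.conj s').toMonoidHom ≠ L₁ := by
    obtain ⟨L₁, hL₁, hne⟩ := hmove
    refine ⟨L₁.map (MulAut.conj n).toMonoidHom, E.map_three hn hL₁, fun e => hne ?_⟩
    rw [← comp, show s' * n = n * s by simp [s', mul_assoc], comp] at e
    exact map_injective (MulAut.conj n).injective e
  obtain ⟨W1, W2⟩ := E.other hs'R hV3 hs'V hs'm hU (fun e => hVU e.symm)
  have hW3 := E.map_three hs'R hU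
  obtain ⟨X1, X2⟩ := E.other hsR hU hsU hmove hW3 W2
  have hsW : (U.map (MulAut.conj s').toMonoidHom).map (MulAut.conj s).toMonoidHom = V :=
    third hU hW3 (E.map_three hsR hW3) hV3 W2.symm X1 X2 hVU W1.symm
  rw [← comp] at hsW
  have hw0 : s * s' ∈ normalizer (R : Set G) := mul_mem hsR hs'R
  obtain ⟨w, hw, hwR, hwL⟩ := base (m := (s * s')⁻¹ * n) (mul_mem (inv_mem hw0) hn)
    (by rw [comp, hV, back hsW])
  refine ⟨(s * s') * w, mul_mem (mul_mem hs hns) hw, mul_mem hw0 hwR, fun L hL => ?_⟩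
  rw [show (s * s' * w)⁻¹ * n = w⁻¹ * ((s * s')⁻¹ * n) by group]
  exact hwL L hL

end Eight

end Cfsg.Agent.H6.StrongClosed
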