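import Cfsg.Agent.H48.SylowIn
import Cfsg.Agent.Coprime.Basic

/-!
# Small facts on Sylow subgroups of normal subgroups
-/

set_option autoImplicit false
set_option linter.style.haveILetI false

namespace Cfsg.Agent.H6.StrongClosed

open Subgroup

universe u

variable {G : Type u} [Group G] [Finite G]

omit [Finite G] in
theorem eq_one_of_two_odd {O P : Subgroup G} (hP : IsPGroup 2 P) (hO : Odd (Nat.card O)) {x : G}
    (hP' : x ∈ P) (hO' : x ∈ O) : x = 1 := by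
  haveI : Fact (Nat.Prime 2) := ⟨Nat.prime_two⟩
  obtain ⟨n, hn⟩ := IsPGroup.iff_orderOf.mp hP ⟨x, hP'⟩
  rw [Subgroup.orderOf_mk] at hn
  have h := hO.of_dvd_nat (Subgroup.orderOf_dvd_natCard _ hO')
  rw [hn] at h
  rcases n with _ | n
  · rwa [pow_zero, orderOf_eq_one_iff] at hn
  · exact absurd h (by rw [Nat.not_odd_iff_even, pow_succ]; exact even_two.mul_left _)

/-- A Sylow subgroup of `M` meets a normal subgroup of `M` in a Sylow subgroup. -/
theorem isSylowIn_inf_normal {P M N : Subgroup G} (h : H48.IsSylowIn 2 P M) (hNM : N ≤ M)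
    (hn : M ≤ normalizer (N : Set G)) : H48.IsSylowIn 2 (P ⊓ N) N := by
  haveI : Fact (Nat.Prime 2) := ⟨Nat.prime_two⟩
  obtain ⟨R, hR, hle⟩ := H48.exists_isSylowIn_ge (H := N) (h.isPGroup.to_le inf_le_left) inf_le_right
  obtain ⟨x, hx, hxR⟩ := h.exists_cj_le hR.isPGroup (hR.le.trans hNM)
  have h2 : H48.cj x R ≤ P ⊓ N :=
    le_inf hxR ((H48.cj_mono hR.le).trans (H48.cj_eq_of_mem_normalizer (hn hx)).le)
  have := H48.eq_of_le_of_card_le hle ((H48.card_cj x R).symm.trans_le (Subgroup.card_le_of_le h2))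
  exact this ▸ hR

/-- The Frattini argument in a normal subgroup which is a 2-group modulo `C`. -/
theorem exists_frattini {M M₁ C K : Subgroup G} (hM₁ : M₁ ≤ M) (hn : M ≤ normalizer (M₁ : Set G))
    (hK : H48.IsSylowIn 2 K M₁) (hC : M₁ ≤ normalizer (C : Set G))
    (hodd : ∀ m ∈ M₁, Odd (orderOf m) → m ∈ C) {n : G} (hnM : n ∈ M) :
    ∃ c ∈ C ⊓ M₁, ∃ d ∈ M, d ∈ normalizer (K : Set G) ∧ n = c * d := by
  haveI : Fact (Nat.Prime 2) := ⟨Nat.prime_two⟩
  set C' := C ⊓ M₁ with hC'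
  have hC'n : M₁ ≤ normalizer (C' : Set G) := fun x hx => by
    refine Coprime.mem_normalizer_of_map_conj ?_
    rw [hC', Subgroup.map_inf _ _ _ (MulAut.conj x).injective, Coprime.map_conj_eq (hC hx),
      Coprime.map_conj_eq (le_normalizer hx)]
  haveI : (C'.subgroupOf M₁).Normal := normal_subgroupOf_of_le_normalizer hC'n
  have hp : IsPGroup 2 (↥M₁ ⧸ C'.subgroupOf M₁) := by
    intro q
    obtain ⟨x, rfl⟩ := QuotientGroup.mk'_surjective _ q
    obtain ⟨i, o, ho, hio⟩ := Nat.exists_eq_two_pow_mul_odd (orderOf_pos x).ne'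
    refine ⟨i, ?_⟩
    rw [← map_pow, QuotientGroup.mk'_apply, QuotientGroup.eq_one_iff, mem_subgroupOf]
    refine ⟨hodd _ (x ^ 2 ^ i).2 ?_, (x ^ 2 ^ i).2⟩
    rw [Subgroup.orderOf_coe, orderOf_pow_of_dvd (by positivity) (hio ▸ dvd_mul_right _ _), hio,
      Nat.mul_div_cancel_left _ (by positivity)]
    exact ho
  obtain ⟨e, he⟩ := IsPGroup.iff_card.mp hp
  have hJ : M₁ ≤ C' ⊔ K := by
    refine relIndex_eq_one.mp ?_
    have hle : C' ⊔ K ≤ M₁ := sup_le inf_le_right hK.le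
    have h1 : (C' ⊔ K).relIndex M₁ ∣ 2 ^ e := by
      have : C'.relIndex M₁ = 2 ^ e := he
      rw [← this, ← Subgroup.relIndex_mul_relIndex C' (C' ⊔ K) M₁ le_sup_left hle]
      exact dvd_mul_left _ _
    have h2 : (C' ⊔ K).relIndex M₁ ∣ K.relIndex M₁ := by
      rw [← Subgroup.relIndex_mul_relIndex K (C' ⊔ K) M₁ le_sup_right hle]
      exact dvd_mul_left _ _
    exact Nat.eq_one_of_dvd_coprimes
      ((Nat.coprime_two_left.mpr (Nat.odd_iff.mpr (Nat.two_dvd_ne_zero.mp hK.ndvd))).pow_left e) h1 h2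
  have hcj := hK.cj n
  rw [H48.cj_eq_of_mem_normalizer (hn hnM)] at hcj
  obtain ⟨x, hx, hxK⟩ := hcj.exists_conj hK
  rw [H48.cj_cj] at hxK
  have hd0 : x * n ∈ normalizer (K : Set G) := H48.mem_normalizer_of_cj_eq hxK
  obtain ⟨c, hc, k, hk, hck⟩ := (Coprime.mem_sup_iff (hK.le.trans hC'n)).mp (hJ (inv_mem hx))
  refine ⟨c, hc, k * (x * n), mul_mem (hM₁ (hK.le hk)) (mul_mem (hM₁ hx) hnM),
    mul_mem (le_normalizer hk) hd0, ?_⟩
  rw [← mul_assoc, ← mul_assoc, hck, inv_mul_cancel, one_mul]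

end Cfsg.Agent.H6.StrongClosed
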