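import Cfsg.Agent.Fusion.Alperin

/-!
# Induction along tame intersections

A relation between fused elements of a Sylow subgroup `P` which is reflexive and transitive holds for
all fused pairs as soon as it holds under conjugation in the normaliser of each tame intersection `H`,
granted the relation for all conjugations of subgroups of `P` larger than `H`.
-/

set_option autoImplicit false

namespace Cfsg.Agent.H6.StrongClosed

open Subgroup
open Cfsg.Agent.Fusion (IsTame Conn alperin)

universe u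

variable {G : Type u} [Group G] [Finite G] {p : ℕ} [Fact p.Prime]

theorem fusion_induction (P : Sylow p G) (R : G → G → Prop) (hrefl : ∀ a ∈ (P : Subgroup G), R a a)
    (htrans : ∀ a b c : G, a ∈ (P : Subgroup G) → b ∈ (P : Subgroup G) → c ∈ (P : Subgroup G) →
      R a b → R b c → R a c)
    (hstep : ∀ Q : Sylow p G, IsTame P Q →
      (∀ A : Subgroup G, A ≤ (P : Subgroup G) →
        Nat.card ((P : Subgroup G) ⊓ (Q : Subgroup G) : Subgroup G) < Nat.card A →
        ∀ g : G, (∀ x ∈ A, g⁻¹ * x * g ∈ (P : Subgroup G)) → ∀ a ∈ A, R a (g⁻¹ * a * g)) →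
      ∀ n ∈ normalizer (((P : Subgroup G) ⊓ (Q : Subgroup G) : Subgroup G) : Set G),
        ∀ a ∈ (P : Subgroup G) ⊓ (Q : Subgroup G), R a (n⁻¹ * a * n))
    {a g : G} (ha : a ∈ (P : Subgroup G)) (hag : g⁻¹ * a * g ∈ (P : Subgroup G)) :
    R a (g⁻¹ * a * g) := by
  have chain : ∀ {m : ℕ},
      (∀ Q : Sylow p G, IsTame P Q →
        m ≤ Nat.card ((P : Subgroup G) ⊓ (Q : Subgroup G) : Subgroup G) →
        ∀ n ∈ normalizer (((P : Subgroup G) ⊓ (Q : Subgroup G) : Subgroup G) : Set G),
          ∀ b ∈ (P : Subgroup G) ⊓ (Q : Subgroup G), R b (n⁻¹ * b * n)) →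
      ∀ {A : Set G} {h : G}, Conn P A h → m ≤ A.ncard → ∀ b ∈ A, b ∈ (P : Subgroup G) →
        R b (h⁻¹ * b * h) ∧ h⁻¹ * b * h ∈ (P : Subgroup G) := by
    intro m hm A h hc
    induction hc with
    | refl A => intro _ b _ hbP; simpa using ⟨hrefl b hbP, hbP⟩
    | step A h x Q hQ hAQ hx _ ih =>
      intro hA b hb hbP
      have h1 : m ≤ Nat.card ((P : Subgroup G) ⊓ (Q : Subgroup G) : Subgroup G) :=
        hA.trans (by rw [← Nat.card_coe_set_eq]; exact Nat.card_mono (Set.toFinite _) hAQ)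
      have hbH : b ∈ (P : Subgroup G) ⊓ (Q : Subgroup G) := hAQ hb
      have hb' : x⁻¹ * b * x ∈ (P : Subgroup G) := ((mem_normalizer_iff''.mp hx b).mp hbH).1
      obtain ⟨h2, h3⟩ := ih (by
        rw [Set.ncard_image_of_injective A (fun b c hbc => mul_left_cancel (mul_right_cancel hbc))]
        exact hA) (x⁻¹ * b * x) ⟨b, hb, rfl⟩ hb'
      have e : h⁻¹ * (x⁻¹ * b * x) * h = (x * h)⁻¹ * b * (x * h) := by group
      rw [e] at h2 h3
      exact ⟨htrans _ _ _ hbP hb' h3 (hm Q hQ h1 x hx b hbH) h2, h3⟩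
  have key : ∀ d : ℕ, ∀ Q : Sylow p G, IsTame P Q →
      Nat.card P - d ≤ Nat.card ((P : Subgroup G) ⊓ (Q : Subgroup G) : Subgroup G) →
      ∀ n ∈ normalizer (((P : Subgroup G) ⊓ (Q : Subgroup G) : Subgroup G) : Set G),
        ∀ b ∈ (P : Subgroup G) ⊓ (Q : Subgroup G), R b (n⁻¹ * b * n) := by
    intro d
    induction d using Nat.strong_induction_on with
    | _ d ih =>
    intro Q hQ hd
    refine hstep Q hQ fun A hA hlt k hk b hb => ?_
    have hAP : Nat.card A ≤ Nat.card P := card_le_of_le hA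
    have hc : Conn P (A : Set G) k := alperin P (fun x hx => hA hx) (by
      rintro _ ⟨x, hx, rfl⟩
      exact hk x hx)
    refine (chain (m := Nat.card A) (fun Q' hQ' hm => ih (Nat.card P - Nat.card A) (by omega) Q' hQ'
      (by omega)) hc ?_ b hb (hA hb)).1
    exact (Nat.card_coe_set_eq (A : Set G)).le
  have hc : Conn P {a} g := alperin P (Set.singleton_subset_iff.mpr ha)
    (by rw [Set.image_singleton]; exact Set.singleton_subset_iff.mpr hag)
  exact (chain (m := 0) (fun Q hQ _ => key (Nat.card P) Q hQ (by omega)) hc (Nat.zero_le _) a rfl ha).1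

end Cfsg.Agent.H6.StrongClosed
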