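import Cfsg.Agent.H6.StrongClosed.Eight
import Cfsg.Agent.H64.UniqueInvolution
import Mathlib.GroupTheory.SpecificGroups.Quaternion

/-!
# Two-groups with one involution

Such a subgroup is cyclic or is generated by `a`, `b` with the quaternion relations; the facts on its
normaliser used for the fusion in a strongly closed subgroup of this kind.
-/

set_option autoImplicit false
set_option linter.style.haveILetI false

namespace Cfsg.Agent.H6.StrongClosed

open Subgroup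

universe u

variable {G : Type u} [Group G]

/-- `S` is generalised quaternion on `a`, `b`, with `a` of order `2 ^ k`. -/
structure Quat (S : Subgroup G) (k : ℕ) (a b : G) : Prop where
  a_mem : a ∈ S
  b_mem : b ∈ S
  two_le : 2 ≤ k
  order_a : orderOf a = 2 ^ k
  notMem : b ∉ zpowers a
  inv : b * a * b⁻¹ = a⁻¹
  sq : b * b = a ^ 2 ^ (k - 1)
  gen : ∀ s ∈ S, s ∈ zpowers a ∨ b⁻¹ * s ∈ zpowers a

/-- A 2-subgroup with at most one involution is cyclic or generalised quaternion. -/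
theorem cyclic_or_quat [Finite G] {S : Subgroup G} (hS : IsPGroup 2 S)
    (huniq : ∀ x ∈ S, ∀ y ∈ S, orderOf x = 2 → orderOf y = 2 → x = y) :
    (∃ c ∈ S, S = zpowers c) ∨ ∃ k a b, Quat S k a b := by
  haveI : Fact (Nat.Prime 2) := ⟨Nat.prime_two⟩
  by_cases hc : IsCyclic S
  · obtain ⟨g, hg⟩ := hc.exists_generator
    refine Or.inl ⟨g, g.2, le_antisymm (fun x hx => ?_) (zpowers_le.mpr g.2)⟩
    obtain ⟨i, hi⟩ := mem_zpowers_iff.mp (hg ⟨x, hx⟩)
    exact ⟨i, congrArg Subtype.val hi⟩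
  have hu : ∀ A B : Subgroup ↥S, Nat.card A = 2 → Nat.card B = 2 → A = B := by
    have key : ∀ A : Subgroup ↥S, Nat.card A = 2 → ∃ x : ↥S, orderOf x = 2 ∧ A = zpowers x :=
      fun A hA => by
        obtain ⟨x, hx⟩ := exists_prime_orderOf_dvd_card' (G := A) 2 (by rw [hA])
        refine ⟨x, by rwa [Subgroup.orderOf_coe], (eq_of_le_of_card_ge (zpowers_le.2 x.2) ?_).symm⟩
        rw [Nat.card_zpowers, Subgroup.orderOf_coe, hx, hA]
    intro A B hA hB
    obtain ⟨x, hx, rfl⟩ := key A hA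
    obtain ⟨y, hy, rfl⟩ := key B hB
    rw [Subtype.ext (huniq _ x.2 _ y.2 (by rwa [Subgroup.orderOf_coe]) (by rwa [Subgroup.orderOf_coe]))]
  rcases S0016.result 2 hS hu with h | ⟨-, l, ⟨e⟩⟩
  · exact absurd h hc
  have hl : l ≠ 0 := by
    rintro rfl
    exact hc (e.isCyclic.2 (by rw [pow_zero]; exact QuaternionGroup.quaternionGroup_one_isCyclic))
  haveI : NeZero (2 ^ l) := ⟨by positivity⟩
  have hna : ¬ IsMulCommutative ↥S := by
    intro h
    have h3 : (QuaternionGroup.a 1 : QuaternionGroup (2 ^ l)) * QuaternionGroup.xa 0 =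
        QuaternionGroup.xa 0 * QuaternionGroup.a 1 := e.symm.injective (by
      rw [map_mul, map_mul]; exact mul_comm' _ _)
    rw [QuaternionGroup.a_mul_xa, QuaternionGroup.xa_mul_a, QuaternionGroup.xa.injEq, zero_sub, zero_add,
      neg_eq_iff_add_eq_zero] at h3
    have h4 : ((2 : ℕ) : ZMod (2 * 2 ^ l)) = 0 := by push_cast; rw [← h3]; norm_num
    have := Nat.le_of_dvd two_pos ((ZMod.natCast_eq_zero_iff _ _).1 h4)
    have : (2 : ℕ) ≤ 2 ^ l := le_self_pow₀ one_le_two hl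
    omega
  have h2 : ∃! x : ↥S, orderOf x = 2 := by
    haveI : Nontrivial ↥S := by
      by_contra h
      rw [not_nontrivial_iff_subsingleton] at h
      exact hc inferInstance
    obtain ⟨n, hn, hcard⟩ := hS.nontrivial_iff_card.mp inferInstance
    obtain ⟨x, hx⟩ := exists_prime_orderOf_dvd_card' 2 (hcard ▸ dvd_pow_self 2 hn.ne')
    exact ⟨x, hx, fun y hy => Subtype.ext
      (huniq _ y.2 _ x.2 (by rwa [Subgroup.orderOf_coe]) (by rwa [Subgroup.orderOf_coe]))⟩
  obtain ⟨k, a, b, hk, ha, hb, hinv, hsq, hgen⟩ := H64.exists_quaternion_gens hS hna h2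
  refine Or.inr ⟨k, a, b, a.2, b.2, hk, by rwa [Subgroup.orderOf_coe], fun h => hb ?_,
    by exact_mod_cast hinv, ?_, fun s hs => ?_⟩
  · obtain ⟨i, hi⟩ := mem_zpowers_iff.mp h
    exact ⟨i, Subtype.ext hi⟩
  · have := congrArg Subtype.val hsq
    simpa [pow_two] using this
  · obtain ⟨i, hi⟩ := hgen ⟨s, hs⟩
    rcases hi with hi | hi
    · exact Or.inl ⟨i, by simpa using (congrArg Subtype.val hi).symm⟩
    · refine Or.inr ⟨i, ?_⟩
      have h1 := congrArg Subtype.val hi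
      simp only [Subgroup.coe_mul, SubmonoidClass.coe_pow] at h1
      simp [h1]

namespace Quat

variable {S : Subgroup G} {k : ℕ} {a b : G} (Q : Quat S k a b)
include Q

/-- The involution. -/
theorem z_sq : a ^ 2 ^ (k - 1) * a ^ 2 ^ (k - 1) = 1 := by
  rw [← pow_add, ← two_mul, ← pow_succ', Nat.sub_add_cancel (by have := Q.two_le; omega), ← Q.order_a,
    pow_orderOf_eq_one]

theorem order_z : orderOf (a ^ 2 ^ (k - 1)) = 2 := by
  have := Q.two_le
  rw [orderOf_pow' _ (by positivity), Q.order_a, Nat.gcd_eq_right (pow_dvd_pow 2 (Nat.sub_le k 1)),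
    Nat.pow_div (Nat.sub_le k 1) two_pos, show k - (k - 1) = 1 by omega, pow_one]

theorem conj_zpow_a (i : ℤ) : b * a ^ i * b⁻¹ = (a ^ i)⁻¹ := by
  rw [← conj_zpow, Q.inv, inv_zpow]

theorem zpow_eq_iff {i j : ℤ} : a ^ i = a ^ j ↔ ((2 : ℤ) ^ k) ∣ i - j := by
  rw [← mul_inv_eq_one, ← zpow_sub, ← orderOf_dvd_iff_zpow_eq_one, Q.order_a]
  norm_cast

theorem out_spec {s : G} (hs : s ∈ S) (hn : s ∉ zpowers a) :
    s * s = a ^ 2 ^ (k - 1) ∧ s * a * s⁻¹ = a⁻¹ := by
  obtain ⟨i, hi⟩ := mem_zpowers_iff.mp ((Q.gen s hs).resolve_left hn)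
  obtain rfl : b * a ^ i = s := by rw [hi, mul_inv_cancel_left]
  constructor
  · calc b * a ^ i * (b * a ^ i) = (b * a ^ i * b⁻¹) * (b * b) * a ^ i := by group
      _ = (a ^ i)⁻¹ * (a ^ 2 ^ (k - 1) * a ^ i) := by rw [Q.conj_zpow_a, Q.sq, mul_assoc]
      _ = a ^ 2 ^ (k - 1) := by
        rw [((Commute.refl a).pow_left _).zpow_right i |>.eq, inv_mul_cancel_left]
  · calc b * a ^ i * a * (b * a ^ i)⁻¹ = b * a * b⁻¹ := by group
      _ = a⁻¹ := Q.inv

theorem order_out {s : G} (hs : s ∈ S) (hn : s ∉ zpowers a) : orderOf s = 4 := by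
  haveI : Fact (Nat.Prime 2) := ⟨Nat.prime_two⟩
  have h := (Q.out_spec hs hn).1
  refine orderOf_eq_prime_pow (p := 2) (n := 1) ?_ ?_
  · rw [pow_one, pow_two, h]
    intro e
    have := Q.order_z
    rw [e, orderOf_one] at this
    norm_num at this
  · rw [show (2 : ℕ) ^ (1 + 1) = 2 * 2 from rfl, pow_mul, pow_two s, h, pow_two, Q.z_sq]

theorem pow_four {s : G} (hs : s ∈ S) (hk : k = 2) : s ^ 4 = 1 := by
  by_cases hn : s ∈ zpowers a
  · have h := orderOf_dvd_of_mem_zpowers hn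
    rw [Q.order_a, hk] at h
    exact orderOf_dvd_iff_pow_eq_one.mp h
  · rw [← Q.order_out hs hn]; exact pow_orderOf_eq_one s

/-- For `k = 2` these are the relations of a quaternion group of order eight. -/
theorem eight (hk : k = 2) : Eight S a b := by
  subst hk
  exact ⟨Q.a_mem, Q.b_mem, Q.order_a, Q.inv, by rw [Q.sq]; simp [pow_two], Q.gen, Q.notMem⟩

/-- The cyclic subgroup of index two is invariant. -/
theorem conj_mem {n : G} (hk : 3 ≤ k) (hn : n ∈ normalizer (S : Set G)) : n * a * n⁻¹ ∈ zpowers a := by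
  by_contra h
  have h1 := Q.order_out ((mem_normalizer_iff.mp hn a).mp Q.a_mem) h
  rw [show orderOf (n * a * n⁻¹) = orderOf a from MulEquiv.orderOf_eq (MulAut.conj n) a, Q.order_a] at h1
  have : 2 ^ 3 ≤ 2 ^ k := Nat.pow_le_pow_right two_pos hk
  omega

theorem conj_b {n : G} (hk : 3 ≤ k) (hn : n ∈ normalizer (S : Set G)) :
    b⁻¹ * (n * b * n⁻¹) ∈ zpowers a := by
  refine (Q.gen _ ((mem_normalizer_iff.mp hn b).mp Q.b_mem)).resolve_left fun h => Q.notMem ?_
  obtain ⟨i, hi⟩ := mem_zpowers_iff.mp h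
  obtain ⟨j, hj⟩ := mem_zpowers_iff.mp (Q.conj_mem hk (inv_mem hn))
  refine mem_zpowers_iff.mpr ⟨j * i, ?_⟩
  rw [zpow_mul, hj, conj_zpow, hi]
  group

/-- The element of order four in the cyclic subgroup. -/
theorem order_u : orderOf (a ^ 2 ^ (k - 2)) = 4 := by
  have := Q.two_le
  rw [orderOf_pow' _ (by positivity), Q.order_a, Nat.gcd_eq_right (pow_dvd_pow 2 (Nat.sub_le k 2)),
    Nat.pow_div (Nat.sub_le k 2) two_pos, show k - (k - 2) = 2 by omega]
  norm_num

theorem mem_u {q : G} (hq : q ∈ zpowers a) (h4 : q ^ 4 = 1) : q ∈ zpowers (a ^ 2 ^ (k - 2)) := by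
  obtain ⟨i, rfl⟩ := mem_zpowers_iff.mp hq
  have h : ((2 : ℤ) ^ k) ∣ i * 4 := by
    have : a ^ (i * 4) = a ^ (0 : ℤ) := by
      rw [zpow_mul, zpow_zero]; exact_mod_cast h4
    simpa using Q.zpow_eq_iff.mp this
  obtain ⟨m, rfl⟩ : ((2 : ℤ) ^ (k - 2)) ∣ i := by
    rw [show (2 : ℤ) ^ k = 2 ^ (k - 2) * 4 by
      rw [show (4 : ℤ) = 2 ^ 2 by norm_num, ← pow_add, Nat.sub_add_cancel Q.two_le]] at h
    exact (mul_dvd_mul_iff_right (by norm_num : (4 : ℤ) ≠ 0)).mp h
  exact ⟨m, by show (a ^ 2 ^ (k - 2)) ^ m = _; rw [← zpow_natCast, ← zpow_mul]; push_cast; rfl⟩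

theorem u_conj {n : G} (hn : n * a * n⁻¹ ∈ zpowers a) :
    n * a ^ 2 ^ (k - 2) * n⁻¹ ∈ zpowers (a ^ 2 ^ (k - 2)) := by
  refine Q.mem_u ?_ ?_
  · rw [← conj_pow]; exact pow_mem hn _
  · have h := pow_orderOf_eq_one (a ^ 2 ^ (k - 2))
    rw [Q.order_u] at h
    rw [conj_pow, h, mul_one, mul_inv_cancel]

/-- A commuting element centralises the whole subgroup. -/
theorem centralizes {w y : G} (hy : y ∈ S) (hyn : y ∉ zpowers a) (ha : Commute w a) (hwy : Commute w y) :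
    w ∈ centralizer (S : Set G) := by
  obtain ⟨i, hi⟩ := mem_zpowers_iff.mp ((Q.gen y hy).resolve_left hyn)
  have hb : Commute w b := by
    rw [show b = y * (a ^ i)⁻¹ by rw [hi]; group]
    exact hwy.mul_right (ha.zpow_right i).inv_right
  refine mem_centralizer_iff.mpr fun s hs => ?_
  rcases Q.gen s hs with h | h <;> obtain ⟨j, hj⟩ := mem_zpowers_iff.mp h
  · rw [← hj]; exact (ha.zpow_right j).eq.symm
  · rw [show s = b * a ^ j by rw [hj, mul_inv_cancel_left]]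
    exact (hb.mul_right (ha.zpow_right j)).eq.symm

/-- The centraliser of `u` and of an outer element is the centre. -/
theorem mem_centralizer_of_commute {q y : G} (hq : q ∈ S) (hy : y ∈ S) (hyn : y ∉ zpowers a)
    (hu : Commute q (a ^ 2 ^ (k - 2))) (hqy : Commute q y) : q ∈ centralizer (S : Set G) := by
  refine Q.centralizes hy hyn ?_ hqy
  by_contra hqa
  have hqn : q ∉ zpowers a := fun h => hqa (by
    obtain ⟨i, rfl⟩ := mem_zpowers_iff.mp h
    exact (Commute.refl a).zpow_left i)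
  have h1 : q * a ^ 2 ^ (k - 2) * q⁻¹ = (a ^ 2 ^ (k - 2))⁻¹ := by
    rw [← conj_pow, (Q.out_spec hq hqn).2, inv_pow]
  rw [hu.eq, mul_inv_cancel_right, eq_inv_iff_mul_eq_one, ← pow_two] at h1
  have := orderOf_dvd_of_pow_eq_one h1
  rw [Q.order_u] at this
  norm_num at this

/-- Elements of odd order normalising a quaternion group of order at least sixteen centralise it. -/
theorem rigid [Finite G] (hk : 3 ≤ k) {m : G} (hm : Odd (orderOf m)) (hn : m ∈ normalizer (S : Set G)) :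
    m ∈ centralizer (S : Set G) := by
  have h1 : m * a * m⁻¹ = a := H25.conj_eq_of_zpowers hm k Q.order_a (Q.conj_mem hk hn)
  obtain ⟨i, hi⟩ := mem_zpowers_iff.mp (Q.conj_b hk hn)
  have hy : m * b * m⁻¹ = b * a ^ i := by rw [hi]; group
  have h2 : m * b * m⁻¹ = b := conj_eq_of_step hm (j := k)
    (Q.order_a ▸ orderOf_dvd_of_mem_zpowers ⟨i, rfl⟩) hy (conj_zpow_eq h1 i)
  exact Q.centralizes Q.b_mem Q.notMem (mul_inv_eq_iff_eq_mul.mp h1) (mul_inv_eq_iff_eq_mul.mp h2)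

/-- The three cyclic subgroups of a quaternion subgroup of order eight, inside a larger one. -/
theorem eight_sub [Finite G] {R : Subgroup G} {a' b' : G} (hR : R ≤ S) (Q' : Quat R 2 a' b') :
    ∃ y ∈ R, y ∉ zpowers a ∧ Eight R (a ^ 2 ^ (k - 2)) y := by
  have key : ∀ {q : G}, q ∈ R → orderOf q = 4 → q ∈ zpowers a → a ^ 2 ^ (k - 2) ∈ R := by
    intro q hq h4 hqa
    have hle : zpowers q ≤ zpowers (a ^ 2 ^ (k - 2)) :=
      zpowers_le.mpr (Q.mem_u hqa (h4 ▸ pow_orderOf_eq_one q))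
    have he := eq_of_le_of_card_ge hle (by rw [Nat.card_zpowers, Nat.card_zpowers, Q.order_u, h4])
    exact zpowers_le.mpr hq (he ▸ mem_zpowers (a ^ 2 ^ (k - 2)))
  have huR : a ^ 2 ^ (k - 2) ∈ R := by
    by_cases h1 : a' ∈ zpowers a
    · exact key Q'.a_mem (by rw [Q'.order_a]; norm_num) h1
    by_cases h2 : b' ∈ zpowers a
    · exact key Q'.b_mem (Q'.order_out Q'.b_mem Q'.notMem) h2
    have h3 := mul_mem (inv_mem ((Q.gen b' (hR Q'.b_mem)).resolve_left h2))
      ((Q.gen a' (hR Q'.a_mem)).resolve_left h1)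
    rw [show (b⁻¹ * b')⁻¹ * (b⁻¹ * a') = b'⁻¹ * a' by group] at h3
    refine key (mul_mem (inv_mem Q'.b_mem) Q'.a_mem)
      (Q'.order_out (mul_mem (inv_mem Q'.b_mem) Q'.a_mem) fun h => Q'.notMem ?_) h3
    simpa using inv_mem (mul_mem h (inv_mem (mem_zpowers a')))
  obtain ⟨y, hyR, hyn⟩ : ∃ y ∈ R, y ∉ zpowers a := by
    by_contra h
    push Not at h
    obtain ⟨i, hi⟩ := mem_zpowers_iff.mp (h _ Q'.a_mem)
    obtain ⟨j, hj⟩ := mem_zpowers_iff.mp (h _ Q'.b_mem)
    have h1 := Q'.inv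
    rw [← hi, ← hj, zpow_mul_comm a j i, mul_inv_cancel_right, hi, eq_inv_iff_mul_eq_one, ← pow_two] at h1
    have := orderOf_dvd_of_pow_eq_one h1
    rw [Q'.order_a] at this
    norm_num at this
  have hk := Q.two_le
  refine ⟨y, hyR, hyn, huR, hyR, Q.order_u, ?_, ?_, fun q hq => ?_, fun h => hyn ?_⟩
  · rw [← conj_pow, (Q.out_spec (hR hyR) hyn).2, inv_pow]
  · rw [(Q.out_spec (hR hyR) hyn).1, ← pow_add, ← two_mul, ← pow_succ',
      show k - 2 + 1 = k - 1 by omega]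
  · by_cases hqa : q ∈ zpowers a
    · exact Or.inl (Q.mem_u hqa (Q'.pow_four hq rfl))
    · have h3 := mul_mem (inv_mem ((Q.gen y (hR hyR)).resolve_left hyn))
        ((Q.gen q (hR hq)).resolve_left hqa)
      rw [show (b⁻¹ * y)⁻¹ * (b⁻¹ * q) = y⁻¹ * q by group] at h3
      exact Or.inr (Q.mem_u h3 (Q'.pow_four (mul_mem (inv_mem hyR) hq) rfl))
  · exact zpowers_le.mpr (pow_mem (mem_zpowers a) _) h

end Quat

end Cfsg.Agent.H6.StrongClosed
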