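import Cfsg.Agent.H6.StrongClosed.FusionStep
import Cfsg.Agent.H6.StrongClosed.Quat
import Cfsg.Agent.H6.StrongClosed.Frattini
import Cfsg.Prelude.Def_TwoFusion
import Cfsg.Agent.Cores.PCore

/-!
# Fusion relative to a strongly closed quaternion subgroup

Fused elements of the Sylow subgroup differ by an element of `S ⊔ C_T(S)` and fusion preserves
`C_T(S)`, granted that the cyclic subgroup of index two is invariant in `C(u)` modulo an odd core.
-/

set_option autoImplicit false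
set_option linter.style.haveILetI false

namespace Cfsg.Agent.H6.StrongClosed

open Subgroup
open Cfsg.Agent.Fusion (IsTame)

universe u

variable {G : Type u} [Group G]

/-- The centraliser of `S` in `T`. -/
def cent (T : Sylow 2 G) (S : Subgroup G) : Subgroup G := (T : Subgroup G) ⊓ centralizer (S : Set G)

/-- `a'` differs from `a` by an element of `S ⊔ C_T(S)` and lies in `C_T(S)` if `a` does. -/
def Rel (T : Sylow 2 G) (S : Subgroup G) (a a' : G) : Prop :=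
  (a ∈ cent T S → a' ∈ cent T S) ∧ a⁻¹ * a' ∈ S ⊔ cent T S

theorem Rel.refl {T : Sylow 2 G} {S : Subgroup G} (a : G) : Rel T S a a :=
  ⟨id, by rw [inv_mul_cancel]; exact one_mem _⟩

theorem Rel.trans {T : Sylow 2 G} {S : Subgroup G} {a b c : G} (h : Rel T S a b) (h' : Rel T S b c) :
    Rel T S a c :=
  ⟨h'.1 ∘ h.1, by rw [show a⁻¹ * c = (a⁻¹ * b) * (b⁻¹ * c) by group]; exact mul_mem h.2 h'.2⟩

/-- The data: a quaternion strongly closed subgroup whose cyclic part is invariant in `C(u)`. -/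
structure Ctx (T : Sylow 2 G) (S : Subgroup G) (k : ℕ) (a b : G) : Prop where
  closed : Cfsg.IsStronglyClosed S (T : Subgroup G)
  quat : Quat S k a b
  cyc : 3 ≤ k → ∀ c : G, Commute c (a ^ 2 ^ (k - 2)) → ∃ j : ℤ,
    ∃ o ∈ (Cfsg.oddCore ↥(normalizer (zpowers (a ^ 2 ^ (k - 2)) : Set G))).map
      (normalizer (zpowers (a ^ 2 ^ (k - 2)) : Set G)).subtype, c * a * c⁻¹ = a ^ j * o

namespace Ctx

variable [Finite G] {T : Sylow 2 G} {S : Subgroup G} {k : ℕ} {a b : G} (C : Ctx T S k a b)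
include C

theorem normalizes {t : G} (ht : t ∈ (T : Subgroup G)) : t ∈ normalizer (S : Set G) :=
  H39.mem_normalizer_of_conj_mem fun s hs =>
    C.closed.2 s hs t (mul_mem (mul_mem ht (C.closed.1 hs)) (inv_mem ht))

/-- Elements of `T` conjugate under `N(S)` are congruent. -/
theorem diff {t n : G} (ht : t ∈ (T : Subgroup G)) (hn : n ∈ normalizer (S : Set G))
    (ht' : n⁻¹ * t * n ∈ (T : Subgroup G)) : t⁻¹ * (n⁻¹ * t * n) ∈ S ⊔ cent T S := by
  classical
  haveI : Fact (Nat.Prime 2) := ⟨Nat.prime_two⟩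
  have Q := C.quat
  set t' := n⁻¹ * t * n with ht'def
  have htS := C.normalizes ht
  have ht'S := C.normalizes ht'
  have hwT : t⁻¹ * t' ∈ (T : Subgroup G) := mul_mem (inv_mem ht) ht'
  suffices h : ∃ r ∈ S, r⁻¹ * (t⁻¹ * t') ∈ centralizer (S : Set G) by
    obtain ⟨r, hr, hc⟩ := h
    rw [show t⁻¹ * t' = r * (r⁻¹ * (t⁻¹ * t')) by group]
    exact mul_mem (mem_sup_left hr) (mem_sup_right ⟨(T : Subgroup G).mul_mem (Subgroup.inv_mem _ (C.closed.1 hr)) hwT, hc⟩)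
  have hnt : n * t' = t * n := by rw [ht'def]; group
  by_cases hk : 3 ≤ k
  · have hsh : ∀ {m : G}, m ∈ normalizer (S : Set G) →
        ∃ e j : ℤ, m * a * m⁻¹ = a ^ e ∧ m * b * m⁻¹ = b * a ^ j ∧ ∃ f : ℤ, e = 2 * f + 1 := by
      intro m hm
      obtain ⟨e, he⟩ := mem_zpowers_iff.mp (Q.conj_mem hk hm)
      obtain ⟨j, hj⟩ := mem_zpowers_iff.mp (Q.conj_b hk hm)
      refine ⟨e, j, he.symm, by rw [hj]; group, ?_⟩
      rcases Int.even_or_odd e with ⟨f, hf⟩ | ho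
      · exfalso
        have h1 : (m * a * m⁻¹) ^ 2 ^ (k - 1) = 1 := by
          rw [← he, ← zpow_natCast, ← zpow_mul, ← zpow_zero a, Q.zpow_eq_iff, sub_zero]
          refine ⟨f, ?_⟩
          push_cast
          conv_rhs => rw [← Nat.sub_add_cancel (show 1 ≤ k by omega), pow_succ]
          rw [hf]; ring
        rw [conj_pow, conj_eq_one_iff] at h1
        have h2 := Q.order_z
        rw [h1, orderOf_one] at h2
        norm_num at h2
      · exact ho
    obtain ⟨en, jn, hna, hnb, fn, hfn⟩ := hsh hn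
    obtain ⟨et, jt, hta, htb, ft, hft⟩ := hsh htS
    obtain ⟨et', jt', ht'a, ht'b, -, -⟩ := hsh ht'S
    have comp : ∀ {m m' q : G}, (m * m') * q * (m * m')⁻¹ = m * (m' * q * m'⁻¹) * m⁻¹ := fun {m m' q} => by
      group
    -- the action on `a`
    have hea : t' * a * t'⁻¹ = a ^ et := by
      refine (MulAut.conj n).injective ?_
      show n * (t' * a * t'⁻¹) * n⁻¹ = n * a ^ et * n⁻¹
      rw [← comp, hnt, comp, hna, conj_zpow_eq hta, conj_zpow_eq hna, ← zpow_mul, ← zpow_mul, mul_comm]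
    -- the action on `b`
    have hpar : ∃ h : ℤ, jt' - jt = 2 * h := by
      have h1 : n * (t' * b * t'⁻¹) * n⁻¹ = t * (n * b * n⁻¹) * t⁻¹ := by rw [← comp, hnt, comp]
      rw [ht'b, hnb, show n * (b * a ^ jt') * n⁻¹ = (n * b * n⁻¹) * (n * a ^ jt' * n⁻¹) by group,
        show t * (b * a ^ jn) * t⁻¹ = (t * b * t⁻¹) * (t * a ^ jn * t⁻¹) by group, hnb, htb,
        conj_zpow_eq hta, conj_zpow_eq hna, mul_assoc, mul_assoc, mul_left_cancel_iff, ← zpow_mul,
        ← zpow_mul, ← zpow_add, ← zpow_add, Q.zpow_eq_iff] at h1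
      obtain ⟨q, hq⟩ := (dvd_pow_self (2 : ℤ) (show k ≠ 0 by omega)).trans h1
      refine ⟨q - fn * jt' + ft * jn, ?_⟩
      rw [hfn, hft] at hq
      linarith [hq]
    obtain ⟨h, hh⟩ := hpar
    obtain ⟨f, hf⟩ := mem_zpowers_iff.mp (Q.conj_mem hk (inv_mem htS))
    rw [inv_inv] at hf
    have hwa : t⁻¹ * t' * a * (t⁻¹ * t')⁻¹ = a := by
      rw [comp, hea, ← hta]; group
    have hwb : t⁻¹ * t' * b * (t⁻¹ * t')⁻¹ = b * a ^ (f * (2 * h)) := by
      rw [comp, ht'b, show b * a ^ jt' = b * a ^ jt * a ^ (2 * h) by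
        rw [mul_assoc, ← zpow_add]; congr 2; omega, ← htb, inv_inv,
        show t⁻¹ * (t * b * t⁻¹ * a ^ (2 * h)) * t = b * (t⁻¹ * a ^ (2 * h) * t) by group,
        conj_zpow_eq_inv hf, ← zpow_mul]
    refine ⟨a ^ (-(f * h)), zpow_mem Q.a_mem _, Q.centralizes Q.b_mem Q.notMem ?_ ?_⟩
    · exact ((Commute.refl a).zpow_left _).inv_left.mul_left (mul_inv_eq_iff_eq_mul.mp hwa)
    · refine mul_inv_eq_iff_eq_mul.mp ?_
      rw [comp, hwb, inv_inv,
        show (a ^ (-(f * h)))⁻¹ * (b * a ^ (f * (2 * h))) * a ^ (-(f * h)) =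
          b * (b⁻¹ * (a ^ (-(f * h)))⁻¹ * b) * (a ^ (f * (2 * h)) * a ^ (-(f * h))) by group,
        show b⁻¹ * (a ^ (-(f * h)))⁻¹ * b = a ^ (-(f * h)) by
          rw [← Q.conj_zpow_a]; group,
        mul_assoc, ← zpow_add, ← zpow_add, show -(f * h) + (f * (2 * h) + -(f * h)) = 0 by ring,
        zpow_zero, mul_one]
  · -- order eight
    have E := Q.eight (by have := Q.two_le; omega)
    obtain ⟨L₀, hL₀, hL₀T⟩ : ∃ L, E.Three L ∧
        ∀ s ∈ (T : Subgroup G), L.map (MulAut.conj s).toMonoidHom = L := by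
      let X := {L : Subgroup G // E.Three L}
      letI : MulAction (T : Subgroup G) X :=
        { smul := fun s L => ⟨L.1.map (MulAut.conj (s : G)).toMonoidHom,
            E.map_three (C.normalizes s.2) L.2⟩
          one_smul := fun L => Subtype.ext (by
            show L.1.map (MulAut.conj ((1 : (T : Subgroup G)) : G)).toMonoidHom = L.1
            rw [OneMemClass.coe_one, H39.map_conj_one])
          mul_smul := fun s s' L => Subtype.ext (by
            show L.1.map (MulAut.conj ((s * s' : (T : Subgroup G)) : G)).toMonoidHom = _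
            exact (H39.map_conj_map_conj L.1 (s : G) (s' : G)).symm) }
      have hcard : ¬ 2 ∣ Nat.card X := by
        have e : {L : Subgroup G | E.Three L} = {zpowers a, zpowers b, zpowers (b * a)} := by
          ext L; simp [Eight.Three]
        have hc : Nat.card X = 3 := by
          show Nat.card ({L : Subgroup G | E.Three L} : Set (Subgroup G)) = 3
          rw [Nat.card_coe_set_eq, e, Set.ncard_eq_three]
          exact ⟨_, _, _, E.ne_uy, E.ne_u_yu, E.ne_y_yu, rfl⟩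
        rw [hc]; norm_num
      obtain ⟨L, hL⟩ := T.isPGroup'.nonempty_fixed_point_of_prime_not_dvd_card X hcard
      exact ⟨L.1, L.2, fun s hs => congrArg Subtype.val (hL ⟨s, hs⟩)⟩
    have comp : ∀ (g h : G) (L : Subgroup G), L.map (MulAut.conj (g * h)).toMonoidHom =
        (L.map (MulAut.conj h).toMonoidHom).map (MulAut.conj g).toMonoidHom :=
      fun g h L => (H39.map_conj_map_conj L g h).symm
    have hiff : (∀ L, E.Three L → L.map (MulAut.conj t).toMonoidHom = L) ↔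
        ∀ L, E.Three L → L.map (MulAut.conj t').toMonoidHom = L := by
      constructor <;> intro h L hL
      · rw [ht'def, mul_assoc, comp, comp, h _ (E.map_three hn hL), ← comp, inv_mul_cancel,
          H39.map_conj_one]
      · rw [show t = n * (t' * n⁻¹) by rw [ht'def]; group, comp, comp,
          h _ (E.map_three (inv_mem hn) hL), ← comp, mul_inv_cancel, H39.map_conj_one]
    have hfix : ∀ L, E.Three L → L.map (MulAut.conj (t⁻¹ * t')).toMonoidHom = L := by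
      intro L hL
      by_cases hall : ∀ L, E.Three L → L.map (MulAut.conj t).toMonoidHom = L
      · rw [comp, hiff.mp hall L hL]
        nth_rewrite 1 [← hall L hL]
        rw [← comp, inv_mul_cancel, H39.map_conj_one]
      · have hall' : ¬ ∀ L, E.Three L → L.map (MulAut.conj t').toMonoidHom = L :=
          fun h => hall (hiff.mpr h)
        push Not at hall hall'
        rw [comp, ← E.map_eq_of_fixed htS ht'S hL₀ (hL₀T t ht) (hL₀T t' ht') hall hall' hL, ← comp,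
          inv_mul_cancel, H39.map_conj_one]
    obtain ⟨r, hr, h1, h2⟩ := E.exists_inner_of_fix hfix
    exact ⟨r, hr, Q.centralizes Q.b_mem Q.notMem h1 h2⟩
where
  conj_zpow_eq_inv {t a : G} {f : ℤ} (hf : a ^ f = t⁻¹ * a * t) {i : ℤ} :
      t⁻¹ * a ^ i * t = (a ^ f) ^ i := by
    rw [hf, show t⁻¹ * a * t = t⁻¹ * a * t⁻¹⁻¹ by rw [inv_inv], conj_zpow, inv_inv]

/-- **Fusion preserves `C_T(S)` and the cosets of `S ⊔ C_T(S)`.** -/
theorem invariant {x g : G} (hx : x ∈ (T : Subgroup G)) (hxg : g⁻¹ * x * g ∈ (T : Subgroup G))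
    (huniq : ∀ x ∈ S, ∀ y ∈ S, orderOf x = 2 → orderOf y = 2 → x = y) :
    Rel T S x (g⁻¹ * x * g) := by
  classical
  haveI : Fact (Nat.Prime 2) := ⟨Nat.prime_two⟩
  have Q := C.quat
  refine fusion_induction T (Rel T S) (fun a _ => Rel.refl a) (fun _ _ _ _ _ _ h h' => h.trans h')
    ?_ hx hxg
  intro P hP IH n hn x hxH
  set H := (T : Subgroup G) ⊓ (P : Subgroup G) with hH
  set M := normalizer (H : Set G) with hM
  have hHT : H ≤ (T : Subgroup G) := inf_le_left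
  set R₀ := S ⊓ H with hR₀
  have hR₀n : ∀ m ∈ M, ∀ r ∈ R₀, m * r * m⁻¹ ∈ R₀ := fun m hm r hr =>
    ⟨C.closed.2 r hr.1 m (hHT ((mem_normalizer_iff.mp hm r).mp hr.2)), (mem_normalizer_iff.mp hm r).mp hr.2⟩
  have hR₀N : ∀ m ∈ M, m ∈ normalizer (R₀ : Set G) := fun m hm =>
    H39.mem_normalizer_of_conj_mem (hR₀n m hm)
  have hHM : H ≤ M := le_normalizer
  have hn'H : n⁻¹ * x * n ∈ H := (mem_normalizer_iff''.mp hn x).mp hxH
  by_cases hSH : S ≤ H
  · -- `n` normalises `S`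
    have hnS : n ∈ normalizer (S : Set G) := by
      have := hR₀N n hn
      rwa [hR₀, inf_eq_left.mpr hSH] at this
    refine ⟨fun hxD => ⟨hHT hn'H, mem_centralizer_iff.mpr fun s hs => ?_⟩,
      C.diff (hHT hxH) hnS (hHT hn'H)⟩
    have h1 := mem_centralizer_iff.mp hxD.2 _ ((mem_normalizer_iff.mp hnS s).mp hs)
    calc s * (n⁻¹ * x * n) = n⁻¹ * ((n * s * n⁻¹) * x) * n := by group
      _ = n⁻¹ * (x * (n * s * n⁻¹)) * n := by rw [h1]
      _ = (n⁻¹ * x * n) * s := by group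
  -- the elements of `M` fixing the cosets of `R₀` in `H`
  let M₁ : Subgroup G :=
    { carrier := {g | g ∈ M ∧ ∀ h ∈ H, g * h * g⁻¹ * h⁻¹ ∈ R₀}
      one_mem' := ⟨one_mem M, fun h _ => by simp⟩
      mul_mem' := fun {g g'} hg hg' => ⟨mul_mem hg.1 hg'.1, fun h hh => by
        rw [show g * g' * h * (g * g')⁻¹ * h⁻¹ =
          g * (g' * h * g'⁻¹ * h⁻¹) * g⁻¹ * (g * h * g⁻¹ * h⁻¹) by group]
        exact mul_mem (hR₀n g hg.1 _ (hg'.2 h hh)) (hg.2 h hh)⟩
      inv_mem' := fun {g} hg => ⟨Subgroup.inv_mem _ hg.1, fun h hh => by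
        have hh' : g⁻¹ * h * g ∈ H := (mem_normalizer_iff''.mp hg.1 h).mp hh
        have h1 := Subgroup.inv_mem _ (hg.2 _ hh')
        rw [show (g * (g⁻¹ * h * g) * g⁻¹ * (g⁻¹ * h * g)⁻¹)⁻¹ = g⁻¹ * h * g * h⁻¹ by group] at h1
        simpa using h1⟩ }
  have hM₁M : M₁ ≤ M := fun g hg => hg.1
  have hMn : M ≤ normalizer (M₁ : Set G) := fun m hm => H39.mem_normalizer_of_conj_mem fun g hg => by
    refine ⟨mul_mem (mul_mem hm hg.1) (inv_mem hm), fun h hh => ?_⟩
    rw [show m * g * m⁻¹ * h * (m * g * m⁻¹)⁻¹ * h⁻¹ =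
      m * (g * (m⁻¹ * h * m) * g⁻¹ * (m⁻¹ * h * m)⁻¹) * m⁻¹ by group]
    exact hR₀n m hm _ (hg.2 _ ((mem_normalizer_iff''.mp hm h).mp hh))
  -- an element of `S` outside `H` normalising it
  obtain ⟨s, hsS, hsH, hsM⟩ : ∃ s ∈ S, s ∉ H ∧ s ∈ M := by
    obtain ⟨g, hg, hgH, hgn⟩ := H39.exists_mem_normalizer_not_mem
      ((T.isPGroup').to_le (sup_le hHT C.closed.1)) (Q := H) (R := H ⊔ S)
      (lt_of_le_of_ne le_sup_left fun e => hSH (e ▸ le_sup_right))
    have hle : H ≤ normalizer (S : Set G) := fun h hh => C.normalizes (hHT hh)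
    rw [sup_comm] at hg
    obtain ⟨s, hs, h, hh, rfl⟩ := (Coprime.mem_sup_iff hle).mp hg
    exact ⟨s, hs, fun hsH => hgH (mul_mem hsH hh), by
      simpa using mul_mem hgn (inv_mem (hHM hh))⟩
  have hsM₁ : s ∈ M₁ := ⟨hsM, fun h hh => by
    have h1 : s * h * s⁻¹ * h⁻¹ ∈ S := by
      rw [show s * h * s⁻¹ * h⁻¹ = s * (h * s⁻¹ * h⁻¹) by group]
      exact mul_mem hsS ((mem_normalizer_iff.mp (C.normalizes (hHT hh)) _).mp (inv_mem hsS))
    exact ⟨h1, H.mul_mem ((mem_normalizer_iff.mp hsM h).mp hh) (H.inv_mem hh)⟩⟩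
  have hR₀2 : IsPGroup 2 R₀ := T.isPGroup'.to_le (inf_le_right.trans hHT)
  -- the case where odd normalisers of `R₀` centralise it
  have rigidCase : (∀ m : G, Odd (orderOf m) → m ∈ normalizer (R₀ : Set G) → ∀ r ∈ R₀, m * r * m⁻¹ = r) →
      Rel T S x (n⁻¹ * x * n) := by
    intro hrig
    have hodd : ∀ m ∈ M₁, Odd (orderOf m) → m ∈ centralizer (H : Set G) := by
      intro m hm ho
      refine mem_centralizer_iff.mpr fun h hh => ?_
      have hr : h⁻¹ * (m * h * m⁻¹) ∈ R₀ := by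
        rw [show h⁻¹ * (m * h * m⁻¹) = h⁻¹ * (m * h * m⁻¹ * h⁻¹) * h by group]
        exact (mem_normalizer_iff''.mp (hR₀N h (hHM hh)) _).mp (hm.2 h hh)
      obtain ⟨j, hj⟩ := IsPGroup.iff_orderOf.mp hR₀2 ⟨_, hr⟩
      rw [Subgroup.orderOf_mk] at hj
      exact (mul_inv_eq_iff_eq_mul.mp (conj_eq_of_step ho (y := h) (dvd_of_eq hj) (by group)
        (hrig m ho (hR₀N m hm.1) _ hr))).symm
    have hK : H48.IsSylowIn 2 ((T : Subgroup G) ⊓ M ⊓ M₁) M₁ :=
      isSylowIn_inf_normal ⟨inf_le_right, T.isPGroup'.to_le inf_le_left, hP.1⟩ hM₁M hMn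
    obtain ⟨c, hc, d, hdM, hdK, rfl⟩ := exists_frattini hM₁M hMn hK
      (fun m hm => H39.mem_normalizer_of_conj_mem fun z hz => mem_centralizer_iff.mpr fun h hh => by
        have h1 := mem_centralizer_iff.mp hz _ ((mem_normalizer_iff''.mp (hM₁M hm) h).mp hh)
        calc h * (m * z * m⁻¹) = m * ((m⁻¹ * h * m) * z) * m⁻¹ := by group
          _ = m * (z * (m⁻¹ * h * m)) * m⁻¹ := by rw [h1]
          _ = m * z * m⁻¹ * h := by group) hodd hn
    have hA : H ⊔ ((T : Subgroup G) ⊓ M ⊓ M₁) ≤ (T : Subgroup G) :=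
      sup_le hHT (inf_le_left.trans inf_le_left)
    have hcx : c⁻¹ * x * c = x := by
      rw [mul_assoc, mem_centralizer_iff.mp hc.1 x hxH, inv_mul_cancel_left]
    rw [show (c * d)⁻¹ * x * (c * d) = d⁻¹ * (c⁻¹ * x * c) * d by group, hcx]
    have hdA : d ∈ normalizer ((H ⊔ ((T : Subgroup G) ⊓ M ⊓ M₁) : Subgroup G) : Set G) :=
      Coprime.mem_normalizer_of_map_conj (by
        rw [Subgroup.map_sup, Coprime.map_conj_eq hdM, Coprime.map_conj_eq hdK])
    refine IH _ hA ?_ d (fun q hq => hA ((mem_normalizer_iff''.mp hdA q).mp hq)) x (mem_sup_left hxH)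
    have hlt : H < H ⊔ ((T : Subgroup G) ⊓ M ⊓ M₁) := lt_of_le_of_ne le_sup_left fun e =>
      hsH (e ▸ mem_sup_right ⟨⟨C.closed.1 hsS, hsM⟩, hsM₁⟩)
    exact lt_of_not_ge fun hge => hlt.ne (eq_of_le_of_card_ge hlt.le hge)
  rcases cyclic_or_quat hR₀2 (fun p hp q hq => huniq p hp.1 q hq.1) with ⟨c, hcR, hc⟩ | ⟨l, a', b', Q'⟩
  · refine rigidCase fun m ho hm r hr => ?_
    rw [hc] at hm hr
    obtain ⟨j, hj⟩ := IsPGroup.iff_orderOf.mp hR₀2 ⟨c, hcR⟩
    rw [Subgroup.orderOf_mk] at hj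
    obtain ⟨i, rfl⟩ := mem_zpowers_iff.mp hr
    exact conj_zpow_eq (H25.conj_eq_of_zpowers ho j hj
      ((mem_normalizer_iff.mp hm c).mp (mem_zpowers c))) i
  by_cases hl : 3 ≤ l
  · exact rigidCase fun m ho hm r hr =>
      mul_inv_eq_iff_eq_mul.mpr (mem_centralizer_iff.mp (Q'.rigid hl ho hm) r hr).symm
  obtain rfl : l = 2 := by have := Q'.two_le; omega
  have hk : 3 ≤ k := by
    by_contra hk
    have hk2 : k = 2 := by have := Q.two_le; omega
    refine hSH fun q hq => ?_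
    have E := Q.eight hk2
    have E' := Q'.eight rfl
    have key : ∀ {p : G}, E.Three (zpowers p) → p ∈ R₀ := fun {p} hp => by
      have hle : ∀ {p' : G}, E'.Three (zpowers p') → p' ∈ R₀ → zpowers p' ≤ R₀ := fun _ h =>
        zpowers_le.mpr h
      have h1 := E.zpowers_mem_three (inf_le_left (a := S) (b := H) E'.u_mem) E'.order_u
      have h2 := E.zpowers_mem_three (inf_le_left (a := S) (b := H) E'.y_mem) E'.order_y
      have h3 := E.zpowers_mem_three (inf_le_left (a := S) (b := H) (mul_mem E'.y_mem E'.u_mem)) E'.order_yu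
      have h4 : zpowers p = zpowers a' ∨ zpowers p = zpowers b' ∨ zpowers p = zpowers (b' * a') := by
        by_cases e1 : zpowers p = zpowers a'
        · exact Or.inl e1
        by_cases e2 : zpowers p = zpowers b'
        · exact Or.inr (Or.inl e2)
        exact Or.inr (Or.inr (third h1 h2 hp h3 E'.ne_uy e1 e2 E'.ne_u_yu.symm E'.ne_y_yu.symm))
      rcases h4 with e | e | e <;> refine (zpowers_le.mpr ?_ : zpowers _ ≤ R₀) (e ▸ mem_zpowers p)
      exacts [Q'.a_mem, Q'.b_mem, mul_mem Q'.b_mem Q'.a_mem]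
    have haR := key (Or.inl rfl)
    have hbR := key (Or.inr (Or.inl rfl))
    rcases Q.gen q hq with h | h <;> obtain ⟨i, hi⟩ := mem_zpowers_iff.mp h
    · exact (hi ▸ zpow_mem haR i : q ∈ R₀).2
    · have := mul_mem hbR (zpow_mem haR i)
      rw [hi, mul_inv_cancel_left] at this
      exact this.2
  obtain ⟨y, hyR, hyn, E⟩ := Q.eight_sub inf_le_left Q'
  set w₀ := a ^ 2 ^ (k - 2) with hw₀
  have fixes : ∀ {q : G}, q * w₀ * q⁻¹ ∈ zpowers w₀ →
      (zpowers w₀).map (MulAut.conj q).toMonoidHom = zpowers w₀ := fun {q} h => by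
    rw [MonoidHom.map_zpowers]
    refine eq_of_le_of_card_ge (zpowers_le.mpr h) ?_
    rw [Nat.card_zpowers, Nat.card_zpowers]
    exact (MulEquiv.orderOf_eq (MulAut.conj q) w₀).ge
  have hsfix := fixes (Q.u_conj (Q.conj_mem hk (le_normalizer hsS)))
  have hmove : ∃ L₁, E.Three L₁ ∧ L₁.map (MulAut.conj s).toMonoidHom ≠ L₁ := by
    by_contra hcon
    push Not at hcon
    obtain ⟨r, hr, h1, h2⟩ := E.exists_inner_of_fix hcon
    have hc := Q.mem_centralizer_of_commute (mul_mem (inv_mem hr.1) hsS) hyR.1 hyn h1 h2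
    have hq : r⁻¹ * s ∈ zpowers a := by
      by_contra hq
      have h3 := (Q.out_spec (mul_mem (inv_mem hr.1) hsS) hq).2
      rw [← mem_centralizer_iff.mp hc a Q.a_mem, mul_inv_cancel_right, eq_inv_iff_mul_eq_one,
        ← pow_two] at h3
      have := orderOf_dvd_of_pow_eq_one h3
      rw [Q.order_a] at this
      have h8 : 2 ^ 3 ≤ 2 ^ k := Nat.pow_le_pow_right two_pos hk
      have := Nat.le_of_dvd two_pos this
      omega
    obtain ⟨i, hi⟩ := mem_zpowers_iff.mp hq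
    have h4 : (r⁻¹ * s) ^ 4 = 1 := by
      have hb := mem_centralizer_iff.mp hc b Q.b_mem
      have h2 : (r⁻¹ * s) * (r⁻¹ * s) = 1 := by
        rw [← hi]
        nth_rewrite 1 [show a ^ i = b * a ^ i * b⁻¹ by rw [hi, hb, mul_inv_cancel_right]]
        rw [Q.conj_zpow_a, inv_mul_cancel]
      rw [pow_succ, pow_succ, pow_two, mul_assoc, h2, one_mul]
    have := mul_mem hr (zpowers_le.mpr E.u_mem (Q.mem_u hq h4))
    rw [mul_inv_cancel_left] at this
    exact hsH this.2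
  obtain ⟨w, hwM₁, -, hwfix⟩ := E.exists_reduce hsM₁ (hR₀N s hsM) (hR₀N n hn)
    ((mem_normalizer_iff.mp (hMn hn) s).mp hsM₁) (Or.inl rfl) hsfix hmove
  obtain ⟨r, hr, hru, hry⟩ := E.exists_inner_of_fix hwfix
  set m := w * r with hm
  set c := r⁻¹ * (w⁻¹ * n)
  have hrM₁ : r ∈ M₁ := ⟨hHM hr.2, fun h hh => by
    rw [show r * h * r⁻¹ * h⁻¹ = r * (h * r⁻¹ * h⁻¹) by group]
    exact mul_mem hr (hR₀n h (hHM hh) _ (inv_mem hr))⟩
  have hmM₁ : m ∈ M₁ := mul_mem hwM₁ hrM₁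
  have hcM : c ∈ M := mul_mem (inv_mem (hHM hr.2)) (mul_mem (inv_mem (hM₁M hwM₁)) hn)
  have hnmc : n = m * c := by simp [m, c, mul_assoc]
  have hcR : ∀ q ∈ R₀, c * q * c⁻¹ = q := by
    intro q hq
    refine mul_inv_eq_iff_eq_mul.mpr ?_
    rcases E.gen q hq with h | h <;> obtain ⟨i, hi⟩ := mem_zpowers_iff.mp h
    · rw [← hi]; exact (hru.zpow_right i).eq
    · rw [show q = y * w₀ ^ i by rw [hi, mul_inv_cancel_left]]
      exact (hry.mul_right (hru.zpow_right i)).eq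
  set x₁ := m⁻¹ * x * m with hx₁
  have hx₁H : x₁ ∈ H := (mem_normalizer_iff''.mp (hM₁M hmM₁) x).mp hxH
  -- the first step
  have step₁ : Rel T S x x₁ := by
    have hq : x⁻¹ * x₁ ∈ R₀ := by
      have h1 := (inv_mem hmM₁ : m⁻¹ ∈ M₁).2 x hxH
      rw [inv_inv] at h1
      rw [show x⁻¹ * x₁ = x⁻¹ * (m⁻¹ * x * m * x⁻¹) * x by rw [hx₁]; group]
      exact (mem_normalizer_iff''.mp (hR₀N x (hHM hxH)) _).mp h1
    refine ⟨fun hxD => ⟨hHT hx₁H, ?_⟩, mem_sup_left hq.1⟩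
    have hcomm : ∀ p ∈ R₀, Commute (x⁻¹ * x₁) p := fun p hp => by
      have h2 : Commute x₁ p := by
        have := mem_centralizer_iff.mp hxD.2 _ ((hR₀n m (hM₁M hmM₁) p hp).1)
        show x₁ * p = p * x₁
        calc x₁ * p = m⁻¹ * (x * (m * p * m⁻¹)) * m := by rw [hx₁]; group
          _ = m⁻¹ * ((m * p * m⁻¹) * x) * m := by rw [this]
          _ = p * x₁ := by rw [hx₁]; group
      exact (show Commute x p from (mem_centralizer_iff.mp hxD.2 p hp.1).symm).inv_left.mul_left h2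
    have := mul_mem hxD.2 (Q.mem_centralizer_of_commute hq.1 hyR.1 hyn (hcomm _ E.u_mem) (hcomm _ hyR))
    rwa [mul_inv_cancel_left] at this
  -- the second step
  refine step₁.trans ?_
  rw [show n⁻¹ * x * n = c⁻¹ * x₁ * c by rw [hnmc, hx₁]; group]
  set x₂ := c⁻¹ * x₁ * c with hx₂
  have hx₂H : x₂ ∈ H := (mem_normalizer_iff''.mp hcM x₁).mp hx₁H
  have hagree : ∀ q ∈ R₀, x₂ * q * x₂⁻¹ = x₁ * q * x₁⁻¹ := fun q hq => by
    calc x₂ * q * x₂⁻¹ = c⁻¹ * (x₁ * (c * q * c⁻¹) * x₁⁻¹) * c := by rw [hx₂]; group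
      _ = c⁻¹ * (x₁ * q * x₁⁻¹) * c := by rw [hcR q hq]
      _ = x₁ * q * x₁⁻¹ := by
        nth_rewrite 1 [← hcR _ (hR₀n x₁ (hHM hx₁H) q hq)]
        group
  set L := normalizer (zpowers w₀ : Set G) with hL
  have hLmem : ∀ {q : G}, q * w₀ * q⁻¹ ∈ zpowers w₀ → q ∈ L := fun {q} h =>
    mem_normalizer_iff_map_conj_eq.mpr (fixes h)
  have hTL : ∀ {t : G}, t ∈ (T : Subgroup G) → t ∈ L := fun {t} ht =>
    hLmem (Q.u_conj (Q.conj_mem hk (C.normalizes ht)))
  have hcu : Commute c w₀ := hru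
  have hcL : c ∈ L := hLmem (by rw [hcu.eq, mul_inv_cancel_right]; exact mem_zpowers _)
  obtain ⟨j, o, ho, hca⟩ := C.cyc hk c hcu
  obtain ⟨o, hoO, rfl⟩ := ho
  have hxa : x₂ * a * x₂⁻¹ = x₁ * a * x₁⁻¹ := by
    set π := QuotientGroup.mk' (Cfsg.oddCore ↥L)
    let A : ↥L := ⟨a, hTL (C.closed.1 Q.a_mem)⟩
    let X : ↥L := ⟨x₁, hTL (hHT hx₁H)⟩
    let Cc : ↥L := ⟨c, hcL⟩
    have e1 : π Cc * π A * (π Cc)⁻¹ = π A ^ j := by
      have e : Cc * A * Cc⁻¹ = A ^ j * o := Subtype.ext (by simpa using hca)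
      rw [← map_inv, ← map_mul, ← map_mul, e, map_mul, map_zpow, QuotientGroup.mk'_apply (N := Cfsg.oddCore ↥L) o,
        (QuotientGroup.eq_one_iff o).mpr hoO, mul_one]
    obtain ⟨i, hi⟩ := mem_zpowers_iff.mp (Q.conj_mem hk (C.normalizes (hHT hx₁H)))
    have e2 : π X * π A * (π X)⁻¹ = π A ^ i := by
      rw [← map_inv, ← map_mul, ← map_mul, ← map_zpow]
      exact congrArg π (Subtype.ext (by simpa using hi.symm))
    have e3 : π (Cc⁻¹ * X * Cc) * π A * (π (Cc⁻¹ * X * Cc))⁻¹ = π A ^ i := by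
      rw [map_mul, map_mul, map_inv,
        show (π Cc)⁻¹ * π X * π Cc * π A * ((π Cc)⁻¹ * π X * π Cc)⁻¹ =
          (π Cc)⁻¹ * (π X * (π Cc * π A * (π Cc)⁻¹) * (π X)⁻¹) * π Cc by group,
        e1, conj_zpow_eq e2, ← zpow_mul, mul_comm i j, zpow_mul, ← e1, conj_zpow]
      group
    have e4 : ((Cc⁻¹ * X * Cc) * A * (Cc⁻¹ * X * Cc)⁻¹)⁻¹ * (X * A * X⁻¹) ∈ Cfsg.oddCore ↥L := by
      rw [← QuotientGroup.eq_one_iff, ← QuotientGroup.mk'_apply]
      rw [map_mul, map_inv, map_mul, map_mul, map_inv, e3, map_mul, map_mul, map_inv, e2, inv_mul_cancel]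
    have e5 : (x₂ * a * x₂⁻¹)⁻¹ * (x₁ * a * x₁⁻¹) = 1 := by
      refine eq_one_of_two_odd T.isPGroup' (O := (Cfsg.oddCore ↥L).map L.subtype) ?_ ?_
        ⟨_, e4, by simp [A, X, Cc, hx₂]⟩
      · rw [Subgroup.card_map_of_injective L.subtype_injective]
        exact Cores.odd_card_oddCore
      · have haT := C.closed.1 Q.a_mem
        exact mul_mem (inv_mem (mul_mem (mul_mem (hHT hx₂H) haT) (inv_mem (hHT hx₂H))))
          (mul_mem (mul_mem (hHT hx₁H) haT) (inv_mem (hHT hx₁H)))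
    exact inv_mul_eq_one.mp e5
  have hmk : ∀ {q : G}, x₂ * q * x₂⁻¹ = x₁ * q * x₁⁻¹ → Commute (x₁⁻¹ * x₂) q := fun {q} h => by
    show x₁⁻¹ * x₂ * q = q * (x₁⁻¹ * x₂)
    calc x₁⁻¹ * x₂ * q = x₁⁻¹ * (x₂ * q * x₂⁻¹) * x₂ := by group
      _ = q * (x₁⁻¹ * x₂) := by rw [h]; group
  have hwD : x₁⁻¹ * x₂ ∈ cent T S :=
    ⟨(T : Subgroup G).mul_mem (Subgroup.inv_mem _ (hHT hx₁H)) (hHT hx₂H),
      Q.centralizes hyR.1 hyn (hmk hxa) (hmk (hagree y hyR))⟩
  refine ⟨fun hD => ?_, mem_sup_right hwD⟩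
  have := mul_mem hD hwD
  rwa [mul_inv_cancel_left] at this

end Ctx

end Cfsg.Agent.H6.StrongClosed
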