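import Cfsg.Agent.H6.StrongClosed.RankOne
import Cfsg.Agent.H6.StrongClosed.Irred
import Cfsg.Agent.H1.Asch.RedRows
import Cfsg.Agent.H1.Asch.ClosedSub
import Cfsg.Agent.H1.Asch.Cover
import Cfsg.Agent.H1.Asch.RowNineteen
import Cfsg.Agent.Bridge.Bender
import Cfsg.Agent.S1250
import Cfsg.Prelude.Def_CaseTheorems

/-!
# Strongly closed 2-subgroups with an overgroup of the local subgroups

The normal closure of the subgroup has a strongly embedded subgroup, and the subgroup is its Sylow
2-subgroup or the subgroup generated by the involutions of that.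
-/

set_option autoImplicit false
set_option linter.style.haveILetI false

namespace Cfsg.Agent.H6.StrongClosed

open Subgroup MulAction
open Cfsg.Agent.H39
open Cfsg.Agent.H1.Asch.Red (mk_eq_one_iff fixed_one_iff)
open Cfsg (IsStronglyEmbedded)

universe u

theorem main (hcore : H1.Asch.Red.Core.{u}) {G : Type u} [Group G] [Finite G] (T : Sylow 2 G)
    (S : Subgroup G) (hS : S ≠ ⊥) (hsc : Cfsg.IsStronglyClosed S (T : Subgroup G)) (H : Subgroup G)
    (hH : H ≠ ⊤) (hC : ∀ s ∈ S, s ≠ 1 → centralizer ({s} : Set G) ≤ H)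
    (hN : normalizer ((Cfsg.omegaOne 2 S : Subgroup G) : Set G) ≤ H) :
    IsStronglyEmbedded ((H ⊓ normalClosure (S : Set G)).subgroupOf (normalClosure (S : Set G))) ∧
      (S = (T : Subgroup G) ⊓ normalClosure (S : Set G) ∨
        S = Cfsg.omegaOne 2 ((T : Subgroup G) ⊓ normalClosure (S : Set G))) ∧
      (Cfsg.PRankLE 2 1 ↥S → S = (T : Subgroup G) ⊓ normalClosure (S : Set G)) := by
  classical
  haveI : Fact (Nat.Prime 2) := ⟨Nat.prime_two⟩
  set N := normalClosure (S : Set G) with hNdef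
  rw [inf_subgroupOf_right]
  have hsq : ∀ {x : G}, orderOf x = 2 → x * x = 1 := fun h => mul_self_of_orderOf_eq_two h
  -- the normaliser of the Sylow subgroup lies in `H`
  have hNT : ∀ n : G, n ∈ normalizer ((T : Subgroup G) : Set G) → n ∈ H := by
    intro n hn
    have hnS : ∀ x ∈ S, n * x * n⁻¹ ∈ S := fun x hx =>
      hsc.2 x hx n ((mem_normalizer_iff.mp hn x).mp (hsc.1 hx))
    refine hN (H39.mem_normalizer_of_conj_mem fun x hx => ?_)
    induction hx using Subgroup.closure_induction with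
    | mem y hy =>
      exact subset_closure ⟨hnS y hy.1, by rw [conj_pow, hy.2, mul_one, mul_inv_cancel]⟩
    | one => simp
    | mul y w _ _ h1 h2 =>
      rw [show n * (y * w) * n⁻¹ = (n * y * n⁻¹) * (n * w * n⁻¹) by group]
      exact mul_mem h1 h2
    | inv y _ h1 =>
      rw [show n * y⁻¹ * n⁻¹ = (n * y * n⁻¹)⁻¹ by group]
      exact inv_mem h1
  obtain ⟨z, hzS, hzH, hz2, hset, hcl⟩ := H1.Asch.Red.setting_stronglyClosed T S hS hsc hH
    (fun t ht ht2 => hC t ht fun e => by rw [e, orderOf_one] at ht2; norm_num at ht2) hNT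
  set I := {a : G | orderOf a = 2 ∧ ∃ g : G, g⁻¹ * a * g ∈ S}
  set K := closure I
  have hK : K.Normal := ⟨fun x hx g => by
    induction hx using Subgroup.closure_induction with
    | mem y hy => exact subset_closure (hset.conj_mem hy g)
    | one => simp
    | mul y w _ _ h1 h2 =>
      rw [show g * (y * w) * g⁻¹ = (g * y * g⁻¹) * (g * w * g⁻¹) by group]
      exact mul_mem h1 h2
    | inv y _ h1 =>
      rw [show g * y⁻¹ * g⁻¹ = (g * y * g⁻¹)⁻¹ by group]
      exact inv_mem h1⟩
  haveI := hK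
  have hzK : z ∈ K := subset_closure hset.base
  have hKN : K ≤ N := (closure_le _).mpr fun a ⟨_, g, hg⟩ => by
    have h : g * (g⁻¹ * a * g) * g⁻¹ ∈ N := normalClosure_normal.conj_mem _ (subset_normalClosure hg) g
    rw [show g * (g⁻¹ * a * g) * g⁻¹ = a by group] at h
    exact h
  have hnb : ∀ t ∈ K, orderOf t = 2 → ∀ x y : G ⧸ H, t • x = x → t • y = y → x = y :=
    fun t ht ht2 x y hx hy => hset.noBad hcore H1.Asch.Red.cover hcl ht ht2 hx hy
  have htr : ∀ x y : G ⧸ H, ∃ k ∈ K, k • x = y := fun x y => by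
    by_cases hxy : x = y
    · exact ⟨1, one_mem _, by rw [one_smul, hxy]⟩
    obtain ⟨d, hd, hdx⟩ := hset.exists_at x
    obtain ⟨e, he, hey⟩ := hset.exists_at y
    obtain ⟨k, hk, -, hkx⟩ := hset.exists_conj_at hd he hdx hey hxy
      (subset_closure (hset.subset hd)) (subset_closure (hset.subset he))
    exact ⟨k, hk, hkx⟩
  have hconj : ∀ {t : G}, t ∈ K → orderOf t = 2 → IsConj z t := fun {t} ht ht2 => by
    obtain ⟨k, -, hk⟩ := H1.Asch.Red.exists_conj_of_nobad hnb htr hset.exists_ne hset.odd_points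
      hzK hz2 ht ht2
    exact isConj_iff.mpr ⟨k, hk⟩
  have hinI : ∀ {t : G}, IsConj z t → orderOf t = 2 → t ∈ I := fun {t} ht ht2 => by
    obtain ⟨g, rfl⟩ := isConj_iff.mp ht
    exact ⟨ht2, g, by rwa [show g⁻¹ * (g * z * g⁻¹) * g = z by group]⟩
  have hinS : ∀ {t : G}, t ∈ (T : Subgroup G) → IsConj z t → t ∈ S := fun {t} htT ht => by
    obtain ⟨g, rfl⟩ := isConj_iff.mp ht
    exact hsc.2 z hzS g htT
  have hSinv : ∀ s ∈ S, orderOf s = 2 → s ∈ K := fun s hs hs2 =>
    subset_closure ⟨hs2, 1, by simpa using hs⟩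
  have hKH : ¬ K ≤ H := by
    intro hle
    obtain ⟨g, -, hg⟩ := SetLike.exists_of_lt (lt_top_iff_ne_top.mpr hH)
    obtain ⟨k, hk, hkg⟩ := htr (QuotientGroup.mk 1) (QuotientGroup.mk g)
    refine hg ((mk_eq_one_iff g).mp ?_)
    rw [← hkg]
    exact (fixed_one_iff k).mpr (hle hk)
  by_cases hfour : ∃ i ∈ K, ∃ j ∈ K, orderOf i = 2 ∧ orderOf j = 2 ∧ i ≠ j ∧ Commute i j
  · have hTH : (T : Subgroup G) ≤ H := fun t ht => hNT t (le_normalizer ht)
    have hne : ∃ x y : G ⧸ H, x ≠ y := hset.exists_ne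
    have C : H1.Asch.Red.ClosedCtx G (G ⧸ H) K T S (QuotientGroup.mk 1) :=
      ⟨hK, hsc, hnb, htr, fun g hg => (fixed_one_iff g).mpr (hTH hg), hne, hSinv,
        fun s hs hsK hs2 => hinS hs (hconj hsK hs2), hfour⟩
    have hSK : S ≤ K := C.le_normal hset.odd_points
    have hNK : N = K := le_antisymm (normalClosure_le_normal hSK) hKN
    have hSE : IsStronglyEmbedded (H.subgroupOf N) := by
      rw [hNK]
      exact H1.Asch.Red.stronglyEmbedded_of_noBad hzK hzH hz2 hKH hnb
    set R := (T : Subgroup G) ⊓ N with hR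
    have hSR : S ≤ R := le_inf hsc.1 fun _ hs => subset_normalClosure hs
    have hRS : ∀ r ∈ R, r * r = 1 → r ∈ S := fun r hr h2 => by
      by_cases h1 : r = 1
      · rw [h1]; exact one_mem S
      have hr2 : orderOf r = 2 := orderOf_eq_prime (by rw [pow_two]; exact h2) h1
      exact hinS hr.1 (hconj (hNK ▸ hr.2) hr2)
    -- the four group inside `T`
    obtain ⟨i, hi, j, hj, hi2, hj2, hij, hcij⟩ := hfour
    have hRin : H48.IsSylowIn 2 R N := isSylowIn_inf_normal (H48.isSylowIn_sylow T) le_top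
      (fun g _ => by rw [normalizer_eq_top]; trivial)
    obtain ⟨p, hp, p', hp', hp2, hp'2, hpp', hpc⟩ :
        ∃ p ∈ S, ∃ p' ∈ S, orderOf p = 2 ∧ orderOf p' = 2 ∧ p ≠ p' ∧ Commute p p' := by
      have hP : IsPGroup 2 ↥(zpowers i ⊔ zpowers j) :=
        H52.Commuting.isPGroup_pair (IsPGroup.of_card (n := 1) (by rw [Nat.card_zpowers, hi2]; rfl))
          (IsPGroup.of_card (n := 1) (by rw [Nat.card_zpowers, hj2]; rfl)) hcij.eq
      obtain ⟨x, hx, hxR⟩ := hRin.exists_cj_le hP
        (sup_le (zpowers_le.mpr (hKN hi)) (zpowers_le.mpr (hKN hj)))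
      have hi' : orderOf (x * i * x⁻¹) = 2 := by rw [H39.orderOf_conj, hi2]
      have hj' : orderOf (x * j * x⁻¹) = 2 := by rw [H39.orderOf_conj, hj2]
      refine ⟨x * i * x⁻¹, hRS _ (hxR (H48.conj_mem_cj (mem_sup_left (mem_zpowers i)))) (hsq hi'),
        x * j * x⁻¹, hRS _ (hxR (H48.conj_mem_cj (mem_sup_right (mem_zpowers j)))) (hsq hj'),
        hi', hj', fun e => hij (mul_left_cancel (mul_right_cancel e)), ?_⟩
      have := hcij.map (MulAut.conj x).toMonoidHom
      simpa using this
    refine ⟨hSE, ?_, fun hrk => ?_⟩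
    · -- the Bender group
      let i' : ↥N := ⟨p, subset_normalClosure hp⟩
      let j' : ↥N := ⟨p', subset_normalClosure hp'⟩
      obtain ⟨-, hB, -, -⟩ := H76.PostBender.quotient_structure Bridge.bender hSE (t := i') (v := j')
        (by rwa [← Subgroup.orderOf_coe]) (by rwa [← Subgroup.orderOf_coe]) (Subtype.ext hpc.eq)
        (fun e => hpp' (congrArg Subtype.val e))
      set O := Cfsg.oddCore ↥N
      set π := QuotientGroup.mk' O
      have hπ := QuotientGroup.mk'_surjective O
      set L := H76.PostBender.involClosure (↥N ⧸ O)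
      have hinj : ∀ {x : ↥N}, (x : G) ∈ (T : Subgroup G) → π x = 1 → x = 1 := fun {x} hx h1 => by
        have hxo : (x : G) ∈ O.map N.subtype := ⟨x, (QuotientGroup.eq_one_iff x).mp h1, rfl⟩
        refine Subtype.ext (eq_one_of_two_odd T.isPGroup' ?_ hx hxo)
        rw [Subgroup.card_map_of_injective N.subtype_injective]
        exact Cores.odd_card_oddCore
      have htop : (⊤ : Subgroup (↥N ⧸ O)) ≤ L := by
        intro y _
        obtain ⟨x, rfl⟩ := hπ y
        have hx : (x : G) ∈ (L.comap π).map N.subtype := by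
          have hle : K ≤ (L.comap π).map N.subtype := (closure_le _).mpr fun a ha => by
            have haN : a ∈ N := hKN (subset_closure ha)
            refine ⟨⟨a, haN⟩, ?_, rfl⟩
            have hne1 : π ⟨a, haN⟩ ≠ 1 := fun h1 => by
              have h2 := Subgroup.orderOf_dvd_natCard _ ((QuotientGroup.eq_one_iff _).mp h1)
              rw [Subgroup.orderOf_mk, ha.1] at h2
              exact absurd ((Cores.odd_card_oddCore (G := ↥N)).of_dvd_nat h2) (by decide)
            refine subset_closure (orderOf_eq_prime ?_ hne1)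
            rw [← map_pow, show (⟨a, haN⟩ : ↥N) ^ 2 = 1 from Subtype.ext (by
              rw [SubmonoidClass.coe_pow, pow_two, hsq ha.1]; rfl), map_one]
          exact hle (hNK ▸ x.2)
        obtain ⟨x', hx', e⟩ := hx
        rw [← Subtype.ext e]
        exact hx'
      have hIrr : Irred (↥N ⧸ O) :=
        (irred_of_bender hB).of_equiv ((MulEquiv.subgroupCongr (top_unique htop)).trans Subgroup.topEquiv)
      set U := hRin.toSylow
      have hU : ∀ {x : ↥N}, x ∈ (U : Subgroup ↥N) ↔ (x : G) ∈ (T : Subgroup G) := fun {x} =>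
        ⟨fun h => (show (x : G) ∈ R from h).1, fun h => (⟨h, x.2⟩ : (x : G) ∈ R)⟩
      have hcl' : Cfsg.IsStronglyClosed (S.subgroupOf N) (U : Subgroup ↥N) :=
        ⟨fun s hs => hU.mpr (hsc.1 hs), fun x hx g hg => hsc.2 (x : G) hx (g : G) (hU.mp hg)⟩
      have hW := S1250.result U (S.subgroupOf N) hcl' O
      rcases hIrr (U.mapSurjective hπ) ((S.subgroupOf N).map π) hW.1
          (fun n hn w hw => hW.2 w hw n ((mem_normalizer_iff.mp hn w).mp (hW.1 hw)))
          (fun y hy h2 => by
            obtain ⟨x, hx, rfl⟩ := hy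
            refine ⟨x, hRS x ⟨hU.mp hx, x.2⟩ ?_, rfl⟩
            exact congrArg Subtype.val (hinj (x := x * x) (mul_mem (hU.mp hx) (hU.mp hx))
              (by rw [map_mul]; exact h2)))
        with h | h
      · refine Or.inl (le_antisymm hSR fun r hr => ?_)
        have h1 : π ⟨r, hr.2⟩ ∈ (S.subgroupOf N).map π := by
          rw [h]
          exact ⟨⟨r, hr.2⟩, hU.mpr hr.1, rfl⟩
        obtain ⟨s, hs, e⟩ := h1
        have h2 := hinj (x := s⁻¹ * ⟨r, hr.2⟩) (mul_mem (inv_mem (hsc.1 hs)) hr.1)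
          (by rw [map_mul, map_inv, e, inv_mul_cancel])
        have h3 : r = (s : G) := (congrArg Subtype.val (inv_mul_eq_one.mp h2)).symm
        rw [h3]
        exact hs
      · refine Or.inr (le_antisymm ?_ ?_)
        · intro s hs
          refine subset_closure ⟨hSR hs, ?_⟩
          have hsN : s ∈ N := subset_normalClosure hs
          have h1 := h (π ⟨s, hsN⟩) ⟨_, hs, rfl⟩
          rw [← map_mul] at h1
          rw [pow_two]
          exact congrArg Subtype.val (hinj (x := ⟨s, hsN⟩ * ⟨s, hsN⟩)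
            (mul_mem (hsc.1 hs) (hsc.1 hs)) h1)
        · refine (closure_le _).mpr ?_
          rintro x ⟨hx, hx2⟩
          exact hRS x hx (by rw [← pow_two]; exact hx2)
    · exfalso
      let A : Subgroup ↥S := closure ({⟨p, hp⟩, ⟨p', hp'⟩} : Set ↥S)
      have hcm : ∀ x ∈ ({⟨p, hp⟩, ⟨p', hp'⟩} : Set ↥S), ∀ y ∈ ({⟨p, hp⟩, ⟨p', hp'⟩} : Set ↥S),
          x * y = y * x := by
        rintro x (rfl | rfl) y (rfl | rfl)
        exacts [rfl, Subtype.ext hpc.eq, Subtype.ext hpc.eq.symm, rfl]
      have hA2 : ∀ x ∈ A, x ^ 2 = 1 := fun x hx => by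
        rw [pow_two]
        refine H1.Asch.Red.mul_self_of_mem_closure (fun a ha => ?_) (fun a ha b hb => hcm a ha b hb) hx
        rcases ha with rfl | rfl <;> exact Subtype.ext (hsq (by assumption))
      have hle := hrk A (Subgroup.isMulCommutative_closure hcm) hA2
      letI := Fintype.ofFinite A
      have h3 : 2 < Fintype.card A := by
        rw [Fintype.two_lt_card_iff]
        refine ⟨1, ⟨⟨p, hp⟩, subset_closure (Or.inl rfl)⟩, ⟨⟨p', hp'⟩, subset_closure (Or.inr rfl)⟩,
          fun e => ?_, fun e => ?_, fun e => hpp' (congrArg (fun a : A => ((a : ↥S) : G)) e)⟩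
        · have : (1 : G) = p := congrArg (fun a : A => ((a : ↥S) : G)) e
          rw [← this, orderOf_one] at hp2; norm_num at hp2
        · have : (1 : G) = p' := congrArg (fun a : A => ((a : ↥S) : G)) e
          rw [← this, orderOf_one] at hp'2; norm_num at hp'2
      rw [Nat.card_eq_fintype_card] at hle
      omega
  · -- one involution
    have hno : ∀ a ∈ I, ∀ b ∈ I, Commute a b → a = b := fun a ha b hb hc => by
      by_contra hab
      exact hfour ⟨a, subset_closure ha, b, subset_closure hb, ha.1, hb.1, hab, hc⟩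
    obtain ⟨P, -, hP⟩ := H1.Asch.Red.exists_sylow_commute hset.odd_class hz2
    have hone : OneInv S := by
      -- an involution of `S` central in `T`
      obtain ⟨c, hcS, hc2, hcT⟩ : ∃ c ∈ S, orderOf c = 2 ∧ ∀ t ∈ (T : Subgroup G), Commute t c := by
        haveI : (S.subgroupOf (T : Subgroup G)).Normal := ⟨fun x hx t =>
          hsc.2 _ hx (t : G) (mul_mem (mul_mem t.2 (hsc.1 hx)) (inv_mem t.2))⟩
        have hne' : S.subgroupOf (T : Subgroup G) ≠ ⊥ := fun hb => hS (by
          have := Subgroup.subgroupOf_eq_bot.mp hb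
          rwa [disjoint_iff, inf_eq_left.mpr hsc.1] at this)
        obtain ⟨x, hx, hx1, hx2⟩ := H52.Commuting.exists_invol
          (T.isPGroup'.to_subgroup (S.subgroupOf (T : Subgroup G) ⊓ center (T : Subgroup G)))
          (PGroups.inf_center_ne_bot T.isPGroup' _ hne')
        refine ⟨(x : G), hx.1, ?_, fun t ht => ?_⟩
        · rw [Subgroup.orderOf_coe]
          exact orderOf_eq_prime (by rw [pow_two]; exact hx2) hx1
        · exact congrArg Subtype.val (Subgroup.mem_center_iff.mp hx.2 ⟨t, ht⟩)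
      intro x hx y hy hx2 hy2
      have key : ∀ {v : G}, v ∈ S → orderOf v = 2 → v = c := fun {v} hv hv2 =>
        hno v ⟨hv2, 1, by simpa using hv⟩ c ⟨hc2, 1, by simpa using hcS⟩ (hcT v (hsc.1 hv))
      rw [key hx hx2, key hy hy2]
    have hTN := inf_normalClosure_eq T S hsc hone
    refine ⟨?_, Or.inl hTN.symm, fun _ => hTN.symm⟩
    refine H1.Asch.Red.stronglyEmbedded_of_noBad (hKN hzK) hzH hz2 (fun h => hKH (hKN.trans h))
      fun t ht ht2 => ?_
    -- involutions of the normal closure are conjugate to `z`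
    have hRin : H48.IsSylowIn 2 ((T : Subgroup G) ⊓ N) N :=
      isSylowIn_inf_normal (H48.isSylowIn_sylow T) le_top (fun g _ => by rw [normalizer_eq_top]; trivial)
    obtain ⟨x, hx, hxR⟩ := hRin.exists_cj_le
      (IsPGroup.of_card (n := 1) (by rw [Nat.card_zpowers, ht2]; rfl) : IsPGroup 2 (zpowers t))
      (zpowers_le.mpr ht)
    have h1 : x * t * x⁻¹ ∈ S := hTN ▸ hxR (H48.conj_mem_cj (mem_zpowers t))
    have h2 := hone _ h1 z hzS (by rw [H39.orderOf_conj, ht2]) hz2
    exact hnb t (subset_closure (hinI (isConj_iff.mpr ⟨x⁻¹, by rw [← h2]; group⟩) ht2)) ht2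

end Cfsg.Agent.H6.StrongClosed
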