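import Cfsg.Agent.H6.StrongClosed.Invariance
import Cfsg.Agent.H52.Commuting.Product
import Cfsg.Agent.Cores.GlaubermanZStar
import Cfsg.Agent.PGroups.Burnside
import Cfsg.Agent.S1250
import Mathlib.GroupTheory.Focal

/-!
# Strongly closed subgroups with one involution

A strongly closed subgroup of a Sylow 2-subgroup with at most one involution is a Sylow 2-subgroup of
its normal closure.
-/

set_option autoImplicit false
set_option linter.style.haveILetI false

namespace Cfsg.Agent.H6.StrongClosed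

open Subgroup

universe u

variable {G : Type u} [Group G]

/-- At most one involution. -/
def OneInv (S : Subgroup G) : Prop := ∀ x ∈ S, ∀ y ∈ S, orderOf x = 2 → orderOf y = 2 → x = y

/-- The statement for one group. -/
def Holds (G : Type u) [Group G] [Finite G] : Prop :=
  ∀ (T : Sylow 2 G) (S : Subgroup G), Cfsg.IsStronglyClosed S (T : Subgroup G) → OneInv S →
    (T : Subgroup G) ⊓ normalClosure (S : Set G) = S

variable [Finite G]

theorem oneInv_zpowers (c : G) : OneInv (zpowers c) := by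
  classical
  intro x hx y hy hx2 hy2
  by_contra hne
  letI := Fintype.ofFinite (zpowers c)
  have h := IsCyclic.card_pow_eq_one_le (α := zpowers c) (n := 2) two_pos
  have hsub : ({1, ⟨x, hx⟩, ⟨y, hy⟩} : Finset (zpowers c)) ⊆ Finset.univ.filter fun a => a ^ 2 = 1 := by
    intro v hv
    simp only [Finset.mem_insert, Finset.mem_singleton] at hv
    rw [Finset.mem_filter]
    refine ⟨Finset.mem_univ _, ?_⟩
    rcases hv with rfl | rfl | rfl
    · exact one_pow 2
    · exact Subtype.ext (by rw [SubmonoidClass.coe_pow, ← hx2]; exact pow_orderOf_eq_one x)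
    · exact Subtype.ext (by rw [SubmonoidClass.coe_pow, ← hy2]; exact pow_orderOf_eq_one y)
  have h1 : (⟨x, hx⟩ : zpowers c) ≠ 1 := fun e => by
    rw [show x = 1 from congrArg Subtype.val e, orderOf_one] at hx2; norm_num at hx2
  have h2 : (⟨y, hy⟩ : zpowers c) ≠ 1 := fun e => by
    rw [show y = 1 from congrArg Subtype.val e, orderOf_one] at hy2; norm_num at hy2
  have h3 := (Finset.card_le_card hsub).trans h
  rw [Finset.card_eq_three.mpr ⟨_, _, _, h1.symm, h2.symm, fun e => hne (congrArg Subtype.val e), rfl⟩] at h3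
  omega

/-- Factoring by a central involution keeps the odd core trivial. -/
theorem oddCore_quotient_central {z : G} (hz : orderOf z = 2) (hzc : z ∈ center G) [(zpowers z).Normal]
    (hO : Cfsg.oddCore G = ⊥) : Cfsg.oddCore (G ⧸ zpowers z) = ⊥ := by
  refine (Subgroup.eq_bot_iff_forall _).mpr fun y hy => ?_
  obtain ⟨r, hr⟩ : Odd (orderOf y) := Cores.odd_card_oddCore.of_dvd_nat (Subgroup.orderOf_dvd_natCard _ hy)
  obtain ⟨q, rfl⟩ := QuotientGroup.mk'_surjective (zpowers z) y
  set π := QuotientGroup.mk' (zpowers z)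
  have h1 : q ^ (2 * r + 1) ∈ zpowers z := by
    rw [← QuotientGroup.eq_one_iff, ← QuotientGroup.mk'_apply, map_pow, ← hr, pow_orderOf_eq_one]
  have h2 : π (q ^ (2 * (r + 1))) = π q := by
    rw [map_pow, show 2 * (r + 1) = orderOf (π q) + 1 by omega, pow_succ, pow_orderOf_eq_one, one_mul]
  have hodd : Odd (orderOf (q ^ (2 * (r + 1)))) := by
    refine (odd_two_mul_add_one r).of_dvd_nat (orderOf_dvd_of_pow_eq_one ?_)
    obtain ⟨i, hi⟩ := mem_zpowers_iff.mp h1
    have hz2 : z * z = 1 := by rw [← pow_two, ← hz, pow_orderOf_eq_one]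
    rw [← pow_mul, show 2 * (r + 1) * (2 * r + 1) = (2 * r + 1) * 2 * (r + 1) by ring, pow_mul, pow_mul,
      ← hi, pow_two, ← (Commute.refl z).mul_zpow, hz2, one_zpow, one_pow]
  have hmem : q ^ (2 * (r + 1)) ∈ Cfsg.oddCore G := by
    refine Cores.mem_oddCore_of_central hz hzc ((Cfsg.oddCore (G ⧸ zpowers z)).comap π)
      ?_ (Cores.odd_card_oddCore (G := G ⧸ zpowers z)) ?_ ?_ hodd
    · rw [Subgroup.mem_comap, show π z = 1 from (QuotientGroup.eq_one_iff z).mpr (mem_zpowers z)]
      exact one_mem _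
    · rw [PGroups.card_comap_mk', Nat.card_zpowers, hz]
    · rw [Subgroup.mem_comap, h2]; exact hy
  rw [hO, Subgroup.mem_bot] at hmem
  rw [← h2, hmem, map_one]

omit [Finite G] in
theorem inf_normalClosure_of_sylow (T : Sylow 2 G) {S : Subgroup G}
    (hS : Cfsg.IsStronglyClosed S (T : Subgroup G)) :
    S ≤ (T : Subgroup G) ⊓ normalClosure (S : Set G) :=
  le_inf hS.1 fun _ hs => subset_normalClosure hs

/-- The cyclic subgroup is invariant modulo an odd normal subgroup, given the statement below. -/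
theorem cyclic_mod_core (ih : ∀ (K : Type u) [Group K] [Finite K], Nat.card K < Nat.card G → Holds K)
    {L : Subgroup G} (hLG : L ≠ ⊤) {T : Sylow 2 G} (hT : H48.IsSylowIn 2 ((T : Subgroup G) ⊓ L) L) {a : G}
    (haL : a ∈ L) (haT : a ∈ (T : Subgroup G))
    (hclosed : ∀ c ∈ L, ∀ x ∈ zpowers a, c * x * c⁻¹ ∈ (T : Subgroup G) → c * x * c⁻¹ ∈ zpowers a)
    {c : G} (hc : c ∈ L) :
    ∃ j : ℤ, ∃ o ∈ (Cfsg.oddCore ↥L).map L.subtype, c * a * c⁻¹ = a ^ j * o := by
  haveI : Fact (Nat.Prime 2) := ⟨Nat.prime_two⟩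
  set O := Cfsg.oddCore ↥L
  set π := QuotientGroup.mk' O
  let A : ↥L := ⟨a, haL⟩
  let P : Sylow 2 ↥L := hT.toSylow
  have hP : ∀ {x : ↥L}, x ∈ (P : Subgroup ↥L) ↔ (x : G) ∈ (T : Subgroup G) := fun {x} => by
    show x ∈ ((T : Subgroup G) ⊓ L).subgroupOf L ↔ _
    rw [mem_subgroupOf]
    exact ⟨fun h => h.1, fun h => ⟨h, x.2⟩⟩
  have hX : Cfsg.IsStronglyClosed (zpowers A) (P : Subgroup ↥L) := by
    refine ⟨zpowers_le.mpr (hP.mpr haT), ?_⟩
    intro x hx g hg
    obtain ⟨i, rfl⟩ := mem_zpowers_iff.mp hx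
    obtain ⟨j, hj⟩ := mem_zpowers_iff.mp (hclosed g g.2 (a ^ i) (zpow_mem (mem_zpowers a) i)
      (by simpa [A] using hP.mp hg))
    exact mem_zpowers_iff.mpr ⟨j, Subtype.ext (by simpa [A] using hj)⟩
  set X := (zpowers A).map π with hXdef
  set P' := P.mapSurjective (QuotientGroup.mk'_surjective O)
  have hcard : Nat.card (↥L ⧸ O) < Nat.card G := by
    refine lt_of_le_of_lt (Nat.card_le_card_of_surjective _ (QuotientGroup.mk'_surjective O)) ?_
    exact lt_of_not_ge fun h => hLG (Subgroup.eq_top_of_card_eq _ (le_antisymm (Subgroup.card_le_card_group L) h))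
  have hX' : Cfsg.IsStronglyClosed X (P' : Subgroup (↥L ⧸ O)) := S1250.result P (zpowers A) hX O
  have hXc : X = zpowers (π A) := MonoidHom.map_zpowers π A
  have hN := ih (↥L ⧸ O) hcard P' X hX' (hXc ▸ oneInv_zpowers _)
  set N := normalClosure (X : Set (↥L ⧸ O))
  -- `N` is abelian
  have hON : Cfsg.oddCore ↥N = ⊥ := by
    have h1 := H52.Commuting.oddCore_normal_bot (N := N) (Cores.pPrimeCore_quotient_pPrimeCore (p := 2) (G := ↥L))
    exact (Subgroup.map_eq_bot_iff_of_injective _ N.subtype_injective).mp h1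
  have hXN : H48.IsSylowIn 2 X N := by
    have := isSylowIn_inf_normal (H48.isSylowIn_sylow P') (N := N) le_top (by
      intro g _; rw [normalizer_eq_top]; trivial)
    rwa [hN] at this
  have hcyc : IsCyclic ↥(hXN.toSylow : Subgroup ↥N) := by
    show IsCyclic ↥(X.subgroupOf N)
    haveI : IsCyclic ↥X := by rw [hXc]; exact isCyclic_zpowers _
    exact isCyclic_of_surjective (Subgroup.subgroupOfEquivOfLe hXN.le).symm
      (Subgroup.subgroupOfEquivOfLe hXN.le).symm.surjective
  have hcen : ∀ u v : ↥N, u * v = v * u := fun u v => by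
    rcases Nat.even_or_odd (Nat.card ↥N) with he | ho
    · exact (Subgroup.mem_center_iff.mp
        (Cores.mem_center_of_isCyclic_sylow hXN.toSylow hcyc hON he.two_dvd (u := v)) u)
    · have hbot : (⊤ : Subgroup ↥N) = ⊥ := le_bot_iff.mp (hON ▸ Cores.le_oddCore (by simpa using ho))
      have : ∀ w : ↥N, w = 1 := fun w => Subgroup.mem_bot.mp (hbot ▸ Subgroup.mem_top w)
      rw [this u, this v]
  set y := π ⟨c, hc⟩ * π A * (π ⟨c, hc⟩)⁻¹
  have hA : π A ∈ X := hXc ▸ mem_zpowers _
  have hyN : y ∈ N := (normalClosure_normal).conj_mem _ (subset_normalClosure hA) _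
  have hy2 : IsPGroup 2 (zpowers y) := by
    refine (H48.isPGroup_cj (g := π ⟨c, hc⟩) hXN.isPGroup).to_le (zpowers_le.mpr ?_)
    exact H48.conj_mem_cj hA
  obtain ⟨g, hg, hgX⟩ := hXN.exists_cj_le hy2 (zpowers_le.mpr hyN)
  have hgy : g * y * g⁻¹ = y := by
    have := congrArg Subtype.val (hcen ⟨g, hg⟩ ⟨y, hyN⟩)
    simp only [Subgroup.coe_mul] at this
    rw [this, mul_inv_cancel_right]
  have hyX : y ∈ X := hgy ▸ hgX (H48.conj_mem_cj (mem_zpowers y))
  rw [hXc] at hyX
  obtain ⟨j, hj⟩ := mem_zpowers_iff.mp hyX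
  refine ⟨j, _, ⟨(A ^ j)⁻¹ * (⟨c, hc⟩ * A * ⟨c, hc⟩⁻¹), ?_, rfl⟩, by simp [A, mul_assoc]⟩
  rw [SetLike.mem_coe, ← QuotientGroup.eq_one_iff, ← QuotientGroup.mk'_apply]
  show π _ = 1
  rw [map_mul, map_inv, map_zpow, hj, map_mul, map_mul, map_inv]
  exact inv_mul_cancel y

theorem holds_step (ih : ∀ (K : Type u) [Group K] [Finite K], Nat.card K < Nat.card G → Holds K) :
    Holds G := by
  classical
  haveI : Fact (Nat.Prime 2) := ⟨Nat.prime_two⟩
  intro T S hS hone
  refine le_antisymm ?_ (inf_normalClosure_of_sylow T hS)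
  rcases eq_or_ne S ⊥ with rfl | hne
  · rw [show normalClosure ((⊥ : Subgroup G) : Set G) = ⊥ from normalClosure_eq_self _]
    exact inf_le_right
  have hS2 : IsPGroup 2 S := T.isPGroup'.to_le hS.1
  -- the odd core
  by_cases hO : Cfsg.oddCore G = ⊥
  swap
  · set O := Cfsg.oddCore G
    set π := QuotientGroup.mk' O
    have hinj : ∀ {x : G}, x ∈ (T : Subgroup G) → π x = 1 → x = 1 := fun {x} hx h =>
      eq_one_of_two_odd T.isPGroup' Cores.odd_card_oddCore hx ((QuotientGroup.eq_one_iff x).mp h)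
    have hlt : Nat.card (G ⧸ O) < Nat.card G := H52.Commuting.card_quotient_lt hO
    have hone' : OneInv (S.map π) := by
      rintro _ ⟨x, hx, rfl⟩ _ ⟨y, hy, rfl⟩ hx2 hy2
      have key : ∀ {v : G}, v ∈ S → orderOf (π v) = 2 → orderOf v = 2 := fun {v} hv h2 => by
        refine orderOf_eq_prime (hinj (pow_mem (hS.1 hv) 2) ?_) fun e => ?_
        · have := pow_orderOf_eq_one (π v)
          rw [h2] at this
          rw [map_pow, this]
        · rw [e, map_one, orderOf_one] at h2; norm_num at h2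
      rw [hone x hx y hy (key hx hx2) (key hy hy2)]
    have h := ih (G ⧸ O) hlt (T.mapSurjective (QuotientGroup.mk'_surjective O)) (S.map π)
      (S1250.result T S hS O) hone'
    intro t ht
    have h1 : π t ∈ (T : Subgroup G).map π ⊓ normalClosure ((S.map π : Subgroup (G ⧸ O)) : Set (G ⧸ O)) := by
      refine ⟨⟨t, ht.1, rfl⟩, ?_⟩
      rw [Subgroup.coe_map, ← map_normalClosure _ π (QuotientGroup.mk'_surjective O)]
      exact ⟨t, ht.2, rfl⟩
    rw [show (T : Subgroup G).map π ⊓ normalClosure ((S.map π : Subgroup (G ⧸ O)) : Set (G ⧸ O)) = S.map π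
      from h] at h1
    obtain ⟨s, hs, hst⟩ := h1
    rwa [← inv_mul_eq_one.mp (hinj (mul_mem (inv_mem (hS.1 hs)) ht.1)
      (by rw [map_mul, map_inv, hst, inv_mul_cancel]))]
  -- the normal closure is everything
  set N := normalClosure (S : Set G) with hNdef
  by_cases hNtop : N = ⊤
  swap
  · have hTN : H48.IsSylowIn 2 ((T : Subgroup G) ⊓ N) N :=
      isSylowIn_inf_normal (H48.isSylowIn_sylow T) le_top
        (fun g _ => by rw [normalizer_eq_top]; trivial)
    have hlt : Nat.card ↥N < Nat.card G := lt_of_not_ge fun h =>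
      hNtop (Subgroup.eq_top_of_card_eq _ (le_antisymm (Subgroup.card_le_card_group N) h))
    have hSN : S ≤ N := fun s hs => subset_normalClosure hs
    have hcl : Cfsg.IsStronglyClosed (S.subgroupOf N) (hTN.toSylow : Subgroup ↥N) :=
      ⟨fun s hs => (⟨hS.1 hs, s.2⟩ : (s : G) ∈ (T : Subgroup G) ⊓ N),
        fun x hx g hg => hS.2 (x : G) hx (g : G) (show (g : G) * x * (g : G)⁻¹ ∈ (T : Subgroup G) from
          (show (g : G) * x * (g : G)⁻¹ ∈ (T : Subgroup G) ⊓ N from hg).1)⟩
    have h := ih ↥N hlt hTN.toSylow (S.subgroupOf N) hcl fun x hx y hy hx2 hy2 =>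
      Subtype.ext (hone x hx y hy (by rwa [Subgroup.orderOf_coe]) (by rwa [Subgroup.orderOf_coe]))
    set N₁ := normalClosure ((S.subgroupOf N : Subgroup ↥N) : Set ↥N)
    have htop : N ≤ N₁.map N.subtype := by
      conv_lhs => rw [hNdef, normalClosure, Group.conjugatesOfSet]
      refine (closure_le _).mpr fun w hw => ?_
      obtain ⟨s, hs, hsw⟩ := Set.mem_iUnion₂.mp hw
      obtain ⟨g, rfl⟩ := isConj_iff.mp hsw
      have hle : H48.cj g S ≤ N := (H48.cj_mono hSN).trans
        (H48.cj_eq_of_mem_normalizer (by rw [normalizer_eq_top]; trivial)).le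
      obtain ⟨x, hx, hxT⟩ := hTN.exists_cj_le (H48.isPGroup_cj hS2) hle
      have h1 : x * g * s * (x * g)⁻¹ ∈ S := hS.2 s hs (x * g) (by
        have := (hxT (H48.conj_mem_cj (H48.conj_mem_cj hs))).1
        rwa [show x * g * s * (x * g)⁻¹ = x * (g * s * g⁻¹) * x⁻¹ by group])
      refine ⟨⟨x, hx⟩⁻¹ * ⟨_, hSN h1⟩ * ⟨x, hx⟩, ?_, by simp [mul_assoc]⟩
      have := normalClosure_normal.conj_mem (⟨_, hSN h1⟩ : ↥N)
        (subset_normalClosure (mem_subgroupOf.mpr h1)) (⟨x, hx⟩⁻¹ : ↥N)
      rwa [inv_inv] at this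
    intro t ht
    obtain ⟨w, hw, rfl⟩ := htop ht.2
    have hw' : w ∈ (hTN.toSylow : Subgroup ↥N) ⊓ N₁ := ⟨(⟨ht.1, w.2⟩ : (w : G) ∈ (T : Subgroup G) ⊓ N), hw⟩
    rw [h] at hw'
    exact hw'
  rw [hNtop, inf_top_eq]
  -- the involution is central
  obtain ⟨z, hzS, hz1, hz2⟩ := H52.Commuting.exists_invol hS2 hne
  have hzo : orderOf z = 2 := orderOf_eq_prime (by rw [pow_two]; exact hz2) hz1
  have hzc : z ∈ center G := by
    refine Subgroup.mem_center_iff.mpr fun g => ?_
    have h := Cores.glaubermanZStar T hzo (hS.1 hzS) (fun g hg =>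
      hone _ (hS.2 z hzS g hg) z hzS (by rw [H39.orderOf_conj, hzo]) hzo) g
    rw [hO, Subgroup.mem_bot, mul_inv_eq_one, mul_inv_eq_iff_eq_mul] at h
    exact h.symm
  haveI : (zpowers z).Normal := ⟨fun q hq g => by
    obtain ⟨i, rfl⟩ := mem_zpowers_iff.mp hq
    rw [Subgroup.mem_center_iff.mp (zpow_mem hzc i) g, mul_inv_cancel_right]
    exact zpow_mem (mem_zpowers z) i⟩
  have hZ1 : zpowers z ≠ ⊥ := by simpa using hz1
  set π := QuotientGroup.mk' (zpowers z)
  set T' := T.mapSurjective (QuotientGroup.mk'_surjective (zpowers z))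
  have htopq : normalClosure ((S.map π : Subgroup _) : Set _) = (⊤ : Subgroup (G ⧸ zpowers z)) := by
    rw [Subgroup.coe_map, ← map_normalClosure _ π (QuotientGroup.mk'_surjective _), ← hNdef, hNtop,
      Subgroup.map_top_of_surjective _ (QuotientGroup.mk'_surjective _)]
  have hback : (T : Subgroup G).map π ≤ S.map π → (T : Subgroup G) ≤ S := fun h t ht => by
    obtain ⟨s, hs, hst⟩ := h ⟨t, ht, rfl⟩
    have := (QuotientGroup.mk'_eq_mk' _).mp hst
    obtain ⟨w, hw, hwt⟩ := this
    rw [← hwt]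
    exact mul_mem hs (zpowers_le.mpr hzS hw)
  rcases cyclic_or_quat hS2 hone with ⟨c, hcS, hc⟩ | ⟨k, a, b, Q⟩
  · refine hback ?_
    have h := ih (G ⧸ zpowers z) (H52.Commuting.card_quotient_lt hZ1) T' (S.map π)
      (S1250.result T S hS _) (by rw [hc, MonoidHom.map_zpowers]; exact oneInv_zpowers _)
    rw [htopq, inf_top_eq] at h
    exact h.le
  -- the quaternion case
  set u₀ := a ^ 2 ^ (k - 2) with hu₀
  set L := centralizer ({u₀} : Set G) with hL
  have haL : a ∈ L := mem_centralizer_singleton_iff.mpr ((Commute.refl a).pow_right _).eq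
  have hTnorm : ∀ t ∈ (T : Subgroup G), t ∈ normalizer (S : Set G) := fun t ht =>
    H39.mem_normalizer_of_conj_mem fun s hs =>
      hS.2 s hs t (mul_mem (mul_mem ht (hS.1 hs)) (inv_mem ht))
  have C : Ctx T S k a b := by
    refine ⟨hS, Q, fun hk c hcu => ?_⟩
    set M := normalizer (zpowers u₀ : Set G) with hM
    have hLM : L ≤ M := fun g hg => centralizer_le_normalizer _ (mem_centralizer_iff.mpr fun q hq => by
      obtain ⟨i, rfl⟩ := mem_zpowers_iff.mp hq
      exact ((show Commute g u₀ from mem_centralizer_singleton_iff.mp hg).zpow_right i).eq.symm)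
    have hMn : M ≤ normalizer (L : Set G) := fun m hm => H39.mem_normalizer_of_conj_mem fun g hg => by
      obtain ⟨i, hi⟩ := mem_zpowers_iff.mp ((mem_normalizer_iff''.mp hm u₀).mp (mem_zpowers u₀))
      refine mem_centralizer_singleton_iff.mpr ?_
      have h1 : Commute g (m⁻¹ * u₀ * m) := hi ▸
        (show Commute g u₀ from mem_centralizer_singleton_iff.mp hg).zpow_right i
      calc m * g * m⁻¹ * u₀ = m * (g * (m⁻¹ * u₀ * m)) * m⁻¹ := by group
        _ = m * ((m⁻¹ * u₀ * m) * g) * m⁻¹ := by rw [h1.eq]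
        _ = u₀ * (m * g * m⁻¹) := by group
    have hTM : (T : Subgroup G) ≤ M := fun t ht => by
      refine mem_normalizer_iff_map_conj_eq.mpr ?_
      rw [MonoidHom.map_zpowers]
      refine eq_of_le_of_card_ge (zpowers_le.mpr (Q.u_conj (Q.conj_mem hk (hTnorm t ht)))) ?_
      rw [Nat.card_zpowers, Nat.card_zpowers]
      exact (MulEquiv.orderOf_eq (MulAut.conj t) u₀).ge
    have hsylM : H48.IsSylowIn 2 (T : Subgroup G) M :=
      ⟨hTM, T.isPGroup', fun h => T.not_dvd_index (h.trans (relIndex_dvd_index_of_le hTM))⟩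
    have hLtop : L ≠ ⊤ := fun h => by
      have hb : b ∈ L := h ▸ Subgroup.mem_top b
      have h1 : b * u₀ * b⁻¹ = u₀⁻¹ := by rw [hu₀, ← conj_pow, Q.inv, inv_pow]
      rw [mem_centralizer_singleton_iff.mp hb, mul_inv_cancel_right, eq_inv_iff_mul_eq_one,
        ← pow_two] at h1
      have := orderOf_dvd_of_pow_eq_one h1
      rw [Q.order_u] at this
      norm_num at this
    have hclosed : ∀ g ∈ L, ∀ x ∈ zpowers a, g * x * g⁻¹ ∈ (T : Subgroup G) → g * x * g⁻¹ ∈ zpowers a := by
      intro g hg x hx hxT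
      have hxS : x ∈ S := zpowers_le.mpr Q.a_mem hx
      by_contra hn
      have hq := hS.2 x hxS g hxT
      have hgx : Commute (g * x * g⁻¹) u₀ := by
        have h0 : Commute x u₀ := by
          obtain ⟨i, rfl⟩ := mem_zpowers_iff.mp hx
          exact ((Commute.refl a).pow_right _).zpow_left i
        have hg' : Commute g u₀ := mem_centralizer_singleton_iff.mp hg
        exact (hg'.mul_left h0).mul_left hg'.inv_left
      have h1 : g * x * g⁻¹ * u₀ * (g * x * g⁻¹)⁻¹ = u₀⁻¹ := by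
        rw [hu₀, ← conj_pow, (Q.out_spec hq hn).2, inv_pow]
      rw [hgx.eq, mul_inv_cancel_right, eq_inv_iff_mul_eq_one, ← pow_two] at h1
      have := orderOf_dvd_of_pow_eq_one h1
      rw [Q.order_u] at this
      norm_num at this
    obtain ⟨j, o, ho, hco⟩ := cyclic_mod_core ih hLtop (isSylowIn_inf_normal hsylM hLM hMn) haL
      (hS.1 Q.a_mem) hclosed (mem_centralizer_singleton_iff.mpr hcu.eq : c ∈ L)
    refine ⟨j, o, ?_, hco⟩
    obtain ⟨o, hoO, rfl⟩ := ho
    haveI : (L.subgroupOf M).Normal := normal_subgroupOf_of_le_normalizer hMn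
    refine ⟨⟨o, hLM o.2⟩, ?_, rfl⟩
    refine Cores.map_pPrimeCore_le_of_normal (L.subgroupOf M) ⟨(Subgroup.subgroupOfEquivOfLe hLM).symm o, ?_, rfl⟩
    show (Subgroup.subgroupOfEquivOfLe hLM).symm o ∈ Cfsg.pPrimeCore 2 ↥(L.subgroupOf M)
    rw [← Cores.pPrimeCore_map_mulEquiv (p := 2) (Subgroup.subgroupOfEquivOfLe hLM).symm]
    exact ⟨o, hoO, rfl⟩
  set D := cent T S with hD
  have hDcl : Cfsg.IsStronglyClosed D (T : Subgroup G) := by
    refine ⟨inf_le_left, fun x hx g hg => ?_⟩
    have := (C.invariant (g := g⁻¹) hx.1 (by rwa [inv_inv]) hone).1 hx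
    rwa [inv_inv] at this
  set E := S ⊔ D
  have hfoc : (commutator G ⊓ (T : Subgroup G)) ≤ E := by
    rw [commutator_inf_eq_focalSubgroup, focalSubgroup_def, closure_le]
    rintro g ⟨hg, x, hx, w, rfl⟩
    have h1 : w⁻¹⁻¹ * x⁻¹ * w⁻¹ ∈ (T : Subgroup G) := by
      have := mul_mem (inv_mem hx) hg
      simpa [commutatorElement_def, mul_assoc] using this
    have := (C.invariant (inv_mem hx) h1 hone).2
    rw [SetLike.mem_coe, commutatorElement_def]
    simpa [mul_assoc] using this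
  have hTE : (T : Subgroup G) ≤ E := by
    intro t ht
    haveI : (commutator G ⊔ S).Normal := Subgroup.Normal.of_commutator_le G le_sup_left
    have h0 : N ≤ commutator G ⊔ S := normalClosure_le_normal fun s hs => mem_sup_right hs
    obtain ⟨w, hw, s, hs, hws⟩ := mem_sup_of_normal_left.mp (h0 (hNtop ▸ Subgroup.mem_top t))
    have hwT : w ∈ (T : Subgroup G) := by
      rw [show w = t * s⁻¹ by rw [← hws, mul_inv_cancel_right]]
      exact mul_mem ht (inv_mem (hS.1 hs))
    rw [← hws]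
    exact mul_mem (hfoc ⟨hw, hwT⟩) (mem_sup_left hs)
  have hTeq : S ⊔ D = (T : Subgroup G) := le_antisymm (sup_le hS.1 inf_le_left) hTE
  -- modulo the involution the two subgroups are disjoint
  have hzD : zpowers z ≤ D := zpowers_le.mpr ⟨hS.1 hzS, mem_centralizer_iff.mpr fun s _ =>
    Subgroup.mem_center_iff.mp hzc s⟩
  have hdisj : S.map π ⊓ D.map π = ⊥ := by
    rw [Subgroup.eq_bot_iff_forall]
    rintro _ ⟨⟨s, hs, rfl⟩, d, hd, hds⟩
    refine (QuotientGroup.eq_one_iff s).mpr ?_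
    have hsD : s ∈ D := by
      obtain ⟨w, hw, hwt⟩ := (QuotientGroup.mk'_eq_mk' _).mp hds
      rw [← hwt]
      exact mul_mem hd (hzD hw)
    have hsb := mem_centralizer_iff.mp hsD.2
    have hsa : s ∈ zpowers a := by
      by_contra hn
      have h1 := (Q.out_spec hs hn).2
      rw [← hsb a Q.a_mem, mul_inv_cancel_right, eq_inv_iff_mul_eq_one, ← pow_two] at h1
      have h2 := orderOf_dvd_of_pow_eq_one h1
      rw [Q.order_a] at h2
      have h4 : 2 ^ 2 ≤ 2 ^ k := Nat.pow_le_pow_right two_pos Q.two_le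
      have := Nat.le_of_dvd two_pos h2
      omega
    obtain ⟨i, rfl⟩ := mem_zpowers_iff.mp hsa
    have h1 : (a ^ i) ^ 2 = 1 := by
      have h0 := Q.conj_zpow_a i
      rw [hsb b Q.b_mem, mul_inv_cancel_right, eq_inv_iff_mul_eq_one] at h0
      rw [pow_two]; exact h0
    by_cases h2 : a ^ i = 1
    · rw [h2]; exact one_mem _
    · rw [hone _ hs z hzS (orderOf_eq_prime h1 h2) hzo]
      exact mem_zpowers z
  have hcomm : ∀ x ∈ S.map π, ∀ y ∈ D.map π, x * y = y * x := by
    rintro _ ⟨s, hs, rfl⟩ _ ⟨d, hd, rfl⟩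
    rw [← map_mul, ← map_mul, mem_centralizer_iff.mp hd.2 s hs]
  have hpair : H52.Commuting.Pair T' (S.map π) (D.map π) :=
    ⟨S1250.result T S hS _, S1250.result T D hDcl _, hcomm, hdisj⟩
  have h := H52.Commuting.normalClosure_inf_eq_bot hpair (oddCore_quotient_central hzo hzc hO) (by
    rw [← Subgroup.map_sup, hTeq]; rfl)
  rw [htopq, top_inf_eq, Subgroup.map_eq_bot_iff, QuotientGroup.ker_mk'] at h
  exact hTeq.ge.trans (sup_le le_rfl (h.trans (zpowers_le.mpr hzS)))

/-- **A strongly closed subgroup with one involution is a Sylow subgroup of its normal closure.** -/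
theorem inf_normalClosure_eq (T : Sylow 2 G) (S : Subgroup G)
    (hS : Cfsg.IsStronglyClosed S (T : Subgroup G)) (hone : OneInv S) :
    (T : Subgroup G) ⊓ normalClosure (S : Set G) = S := by
  have aux : ∀ (n : ℕ) (K : Type u) [Group K] [Finite K], Nat.card K < n → Holds K := by
    intro n
    induction n with
    | zero => intro K _ _ h; omega
    | succ n ih => intro K _ _ h; exact holds_step fun L _ _ hL => ih L (by omega)
  exact aux (Nat.card G + 1) G (Nat.lt_succ_self _) T S hS hone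

end Cfsg.Agent.H6.StrongClosed
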